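import Mathlib
import Cfsg.Agent.Elementary.HalfTransitiveP
import Cfsg.Agent.S0675

/-!
Linear groups of coprime characteristic all whose orbits have `p`-power size: general facts,
and the exclusion of a decomposition into `p` blocks permuted by a Sylow `p`-subgroup.
-/

set_option autoImplicit false
set_option linter.unusedSectionVars false
set_option linter.unusedVariables false
set_option linter.style.haveILetI false

namespace Cfsg.Lib.OrbitPPower

open Cfsg.Lib Subgroup
open Cfsg.Lib.HalfTrans (St mem_St mul_apply one_apply inv_apply_self orbit_mul_St)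

variable {q p : ℕ} [Fact q.Prime] [Fact p.Prime] {V : Type*} [AddCommGroup V] [Module (ZMod q) V]
variable {H : Type*} [Group H] {ρ : H →* (V ≃ₗ[ZMod q] V)}

/-- Every orbit has `p`-power size. -/
def POrb (ρ : H →* (V ≃ₗ[ZMod q] V)) (p : ℕ) : Prop := ∀ v : V, ∃ a : ℕ, (St ρ v).index = p ^ a

/-- A minimal counterexample. -/
structure Crit (ρ : H →* (V ≃ₗ[ZMod q] V)) (p : ℕ) : Prop where
  inj : Function.Injective ρ
  orb : POrb ρ p
  cop : ¬ q ∣ Nat.card H
  perf : commutator H = ⊤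
  nsol : ¬ Group.IsSolvable H
  sub : ∀ N : Subgroup H, N.Normal → N ≠ ⊤ → Group.IsSolvable N
  irr : ∀ W : Submodule (ZMod q) V, (∀ g : H, ∀ w ∈ W, ρ g w ∈ W) → W = ⊥ ∨ W = ⊤

/-- The Sylow subgroup has the same orbits. -/
theorem sylow_orbit [Finite H] (ho : POrb ρ p) (P : Sylow p H) (v : V) (h : H) :
    ∃ g ∈ (P : Subgroup H), ρ g v = ρ h v := by
  classical
  obtain ⟨a, ha⟩ := ho v
  let ρP : ↥(P : Subgroup H) →* (V ≃ₗ[ZMod q] V) := ρ.comp (P : Subgroup H).subtype
  have h1 := orbit_mul_St (ρ := ρ) v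
  have h2 := orbit_mul_St (ρ := ρP) v
  set Q := St ρP v
  set S := St ρ v
  have hOH : Nat.card {u : V | ∃ g : H, ρ g v = u} = p ^ a := by
    have h3 := S.card_mul_index
    rw [ha, mul_comm] at h3
    exact Nat.eq_of_mul_eq_mul_right Nat.card_pos (h1.trans h3.symm)
  obtain ⟨N, hN⟩ := IsPGroup.iff_card.mp P.2
  obtain ⟨b, hb⟩ := IsPGroup.iff_card.mp (P.2.to_subgroup Q)
  have hQS : Nat.card Q ∣ Nat.card S := by
    have e : Nat.card (Q.map (P : Subgroup H).subtype) = Nat.card Q :=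
      Subgroup.card_map_of_injective (P : Subgroup H).subtype_injective
    rw [← e]
    refine Subgroup.card_dvd_of_le ?_
    rintro _ ⟨x, hx, rfl⟩
    exact hx
  have hdvd : p ^ a * p ^ b ∣ Nat.card H := by
    rw [← h1, hOH]
    exact mul_dvd_mul_left _ (hb ▸ hQS)
  have hle : a + b ≤ N := by
    have hP : Nat.card (P : Subgroup H) = p ^ (Nat.card H).factorization p := P.card_eq_multiplicity
    rw [← pow_add] at hdvd
    have := ((Fact.out : p.Prime).pow_dvd_iff_le_factorization Nat.card_pos.ne').mp hdvd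
    have hNe : p ^ N = p ^ (Nat.card H).factorization p := hN.symm.trans hP
    rwa [Nat.pow_right_injective (Fact.out : p.Prime).two_le hNe]
  have hsub : {u : V | ∃ g : ↥(P : Subgroup H), ρP g v = u} ⊆ {u : V | ∃ g : H, ρ g v = u} :=
    fun u ⟨g, hg⟩ => ⟨g, hg⟩
  have hfin : ({u : V | ∃ g : H, ρ g v = u}).Finite := Set.finite_range fun g : H => ρ g v
  have heq := Set.eq_of_subset_of_ncard_le hsub (by
    rw [← Nat.card_coe_set_eq, ← Nat.card_coe_set_eq, hOH]
    have hpos : 0 < p ^ b := pow_pos (Fact.out : p.Prime).pos b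
    refine Nat.le_of_mul_le_mul_right ?_ hpos
    rw [← pow_add]
    calc p ^ (a + b) ≤ p ^ N := Nat.pow_le_pow_right (Fact.out : p.Prime).pos hle
      _ = Nat.card {u : V | ∃ g : ↥(P : Subgroup H), ρP g v = u} * Nat.card Q := by rw [h2, hN]
      _ = _ := by rw [hb]) hfin
  have hm : ρ h v ∈ {u : V | ∃ g : H, ρ g v = u} := ⟨h, rfl⟩
  rw [← heq] at hm
  obtain ⟨g, hg⟩ := hm
  exact ⟨g, g.2, hg⟩

variable [Finite H] (C : Crit ρ p)
include C

theorem Crit.hom_trivial {K : Type*} [Group K] (f : H →* K) (hK : Group.IsSolvable f.range) (x : H) : f x = 1 := by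
  have hperfect : commutator f.range = ⊤ := by
    rw [commutator_def, ← Subgroup.map_top_of_surjective _ f.rangeRestrict_surjective, ← Subgroup.map_commutator,
      ← commutator_def, C.perf]
  have hbot : f.range = ⊥ := by
    by_contra hne
    haveI : Nontrivial f.range := (Subgroup.nontrivial_iff_ne_bot _).mpr hne
    haveI := hK
    exact (Group.IsSolvable.commutator_lt_top_of_nontrivial f.range).ne hperfect
  have hx : f x ∈ f.range := ⟨x, rfl⟩
  rwa [hbot, Subgroup.mem_bot] at hx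

theorem Crit.hom_trivial_comm {K : Type*} [CommGroup K] (f : H →* K) (x : H) : f x = 1 :=
  C.hom_trivial f inferInstance x

theorem Crit.sylow_irr (P : Sylow p H) (W : Submodule (ZMod q) V) (hW : ∀ g ∈ (P : Subgroup H), ∀ w ∈ W, ρ g w ∈ W) :
    W = ⊥ ∨ W = ⊤ :=
  C.irr W fun h w hw => by
    obtain ⟨g, hg, e⟩ := sylow_orbit C.orb P w h
    exact e ▸ hW g hg w hw

theorem Crit.sylow_ne_bot (P : Sylow p H) : (P : Subgroup H) ≠ ⊥ := by
  intro hP
  refine C.nsol ?_
  have : ∀ h : H, h = 1 := fun h => HalfTrans.faithful C.inj fun v => by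
    obtain ⟨g, hg, e⟩ := sylow_orbit C.orb P v h
    rw [hP, Subgroup.mem_bot] at hg
    rw [← e, hg, one_apply]
  haveI : Subsingleton H := ⟨fun a b => (this a).trans (this b).symm⟩
  infer_instance

/-- Central elements of the Sylow subgroup act without fixed points. -/
theorem Crit.central_fpf (P : Sylow p H) {z : H} (hz : ∀ g ∈ (P : Subgroup H), g * z = z * g)
    (hz1 : z ≠ 1) {v : V} (hv : ρ z v = v) : v = 0 := by
  rcases C.sylow_irr P (LinearMap.eqLocus (ρ z : V →ₗ[ZMod q] V) LinearMap.id) (fun g hg w hw => by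
    simp only [LinearMap.mem_eqLocus, LinearEquiv.coe_coe, LinearMap.id_apply] at hw ⊢
    rw [← mul_apply, ← hz g hg, mul_apply, hw]) with h | h
  · have : v ∈ LinearMap.eqLocus (ρ z : V →ₗ[ZMod q] V) LinearMap.id := hv
    rwa [h, Submodule.mem_bot] at this
  · refine absurd (HalfTrans.faithful C.inj fun w => ?_) hz1
    exact (h ▸ Submodule.mem_top : w ∈ LinearMap.eqLocus (ρ z : V →ₗ[ZMod q] V) LinearMap.id)

/-- A Sylow subgroup cannot permute `p` non-zero independent summands non-trivially. -/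
theorem Crit.no_blocks (P : Sylow p H) (W : Fin p → Submodule (ZMod q) V) (htop : iSup W = ⊤)
    (hind : iSupIndep W) (hne : ∀ i, W i ≠ ⊥)
    (hperm : ∀ g ∈ (P : Subgroup H), ∀ i, ∃ j, ∀ w ∈ W i, ρ g w ∈ W j)
    (hmove : ∃ g ∈ (P : Subgroup H), ∃ i, ∃ w ∈ W i, ρ g w ∉ W i) : False := by
  classical
  have hp : p.Prime := Fact.out
  have huniq : ∀ (i j : Fin p) (v : V), v ∈ W i → v ∈ W j → v ≠ 0 → i = j := fun i j v h1 h2 hv => by
    by_contra hij
    exact hv (Submodule.disjoint_def.mp (hind.pairwiseDisjoint hij) v h1 h2)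
  have hsumne : ∀ (i j : Fin p), i ≠ j → ∀ a ∈ W i, ∀ b ∈ W j, a ≠ 0 → b ≠ 0 → ∀ l, a + b ∈ W l → False := by
    intro i j hij a ha b hb ha0 hb0 l hl
    rcases eq_or_ne l i with rfl | hli
    · exact hij (huniq l j b (by simpa using (W l).sub_mem hl ha) hb hb0)
    · have hd := Submodule.disjoint_def.mp (hind i)
      refine ha0 (hd a ha ?_)
      have h1 : a + b ∈ ⨆ k, ⨆ _ : k ≠ i, W k := Submodule.mem_iSup_of_mem l (Submodule.mem_iSup_of_mem hli hl)
      have h2 : b ∈ ⨆ k, ⨆ _ : k ≠ i, W k := Submodule.mem_iSup_of_mem j (Submodule.mem_iSup_of_mem hij.symm hb)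
      simpa using sub_mem h1 h2
  have hall : ∀ (h : H) (i : Fin p), ∃ j, ∀ w ∈ W i, ρ h w ∈ W j := by
    intro h i
    obtain ⟨v, hv, hv0⟩ := (Submodule.ne_bot_iff _).mp (hne i)
    obtain ⟨g, hg, e⟩ := sylow_orbit C.orb P v h
    obtain ⟨j, hj⟩ := hperm g hg i
    refine ⟨j, fun w hw => ?_⟩
    by_cases hw0 : w = 0
    · simp [hw0]
    obtain ⟨g', hg', e'⟩ := sylow_orbit C.orb P w h
    obtain ⟨j', hj'⟩ := hperm g' hg' i
    obtain ⟨g'', hg'', e''⟩ := sylow_orbit C.orb P (v + w) h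
    obtain ⟨j'', hj''⟩ := hperm g'' hg'' i
    have hva : ρ h v ∈ W j := e ▸ hj v hv
    have hwb : ρ h w ∈ W j' := e' ▸ hj' w hw
    rcases eq_or_ne j j' with rfl | hjj
    · exact hwb
    · exact absurd (e'' ▸ hj'' (v + w) ((W i).add_mem hv hw)) fun hc =>
        hsumne j j' hjj _ hva _ hwb (by simpa using hv0) (by simpa using hw0) j'' (by rwa [map_add] at hc)
  choose f hf using hall
  have hf1 : ∀ (a b : H) (i : Fin p), f (a * b) i = f a (f b i) := by
    intro a b i
    obtain ⟨v, hv, hv0⟩ := (Submodule.ne_bot_iff _).mp (hne i)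
    refine huniq _ _ (ρ (a * b) v) (hf _ _ v hv) ?_ (by simpa using hv0)
    rw [mul_apply]
    exact hf a _ _ (hf b i v hv)
  have hf0 : ∀ i, f 1 i = i := fun i => by
    obtain ⟨v, hv, hv0⟩ := (Submodule.ne_bot_iff _).mp (hne i)
    exact huniq _ _ v (by simpa [one_apply] using hf 1 i v hv) hv hv0
  let σ : H →* Equiv.Perm (Fin p) :=
    { toFun := fun h => ⟨f h, f h⁻¹, fun i => by rw [← hf1, inv_mul_cancel, hf0],
        fun i => by rw [← hf1, mul_inv_cancel, hf0]⟩
      map_one' := Equiv.ext hf0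
      map_mul' := fun a b => Equiv.ext (hf1 a b) }
  obtain ⟨g₀, hg₀, i₀, w₀, hw₀, hw₀'⟩ := hmove
  have hg₀σ : σ g₀ ≠ 1 := fun e => hw₀' (by
    have := hf g₀ i₀ w₀ hw₀
    rwa [show f g₀ i₀ = i₀ from congrArg (fun t : Equiv.Perm (Fin p) => t i₀) e] at this)
  have hnsol : ¬ Group.IsSolvable σ.range := fun hs => hg₀σ (C.hom_trivial σ hs g₀)
  -- the image of the Sylow subgroup has order at most p
  set T := (P : Subgroup H).map σ with hTdef
  obtain ⟨k, hk⟩ := IsPGroup.iff_card.mp (P.2.map σ)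
  have hTp : Nat.card T ≤ p := by
    have hd : Nat.card T ∣ Nat.card (Equiv.Perm (Fin p)) := Subgroup.card_subgroup_dvd_card T
    rw [hTdef, hk, Nat.card_perm, Nat.card_fin] at hd
    rw [hTdef, hk]
    have hk1 : k ≤ 1 := by
      by_contra hc
      have h2 : p ^ 2 ∣ p.factorial := (pow_dvd_pow p (by omega)).trans hd
      obtain ⟨m, hm⟩ : ∃ m, p = m + 1 := ⟨p - 1, by have := hp.pos; omega⟩
      rw [hm, Nat.factorial_succ, ← hm, sq] at h2
      have h3 : p ∣ m.factorial := (Nat.mul_dvd_mul_iff_left hp.pos).mp h2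
      have h4 := (hp.dvd_factorial).mp h3
      omega
    calc p ^ k ≤ p ^ 1 := Nat.pow_le_pow_right hp.pos hk1
      _ = p := pow_one p
  have hTne : T ≠ ⊥ := fun e => hg₀σ (by
    have : σ g₀ ∈ T := Subgroup.mem_map_of_mem σ hg₀
    rwa [e, Subgroup.mem_bot] at this)
  have hcyc : orderOf (σ g₀) = p := by
    obtain ⟨l, hl⟩ := IsPGroup.iff_orderOf.mp (P.2.map σ) ⟨σ g₀, Subgroup.mem_map_of_mem σ hg₀⟩
    rw [Subgroup.orderOf_mk] at hl
    have hle : orderOf (σ g₀) ≤ p := le_trans (by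
      rw [← Subgroup.orderOf_mk (σ g₀) (Subgroup.mem_map_of_mem σ hg₀)]
      exact orderOf_le_card) hTp
    rcases l with _ | _ | l
    · exact absurd (orderOf_eq_one_iff.mp (by simpa using hl)) hg₀σ
    · simpa using hl
    · rw [hl] at hle
      have : p ^ 1 < p ^ (l + 1 + 1) := Nat.pow_lt_pow_right hp.one_lt (by omega)
      rw [pow_one] at this
      omega
  have hcard : (Fintype.card (Fin p)).Prime := by rwa [Fintype.card_fin]
  have hisc : (σ g₀).IsCycle := Equiv.Perm.isCycle_of_prime_order'' hcard (by rw [hcyc, Fintype.card_fin])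
  have hsupp : (σ g₀).support = Finset.univ := Finset.eq_univ_of_card _ (by
    rw [← hisc.orderOf, hcyc, Fintype.card_fin])
  haveI htr : MulAction.IsPretransitive σ.range (Fin p) := ⟨fun a b => by
    obtain ⟨i, hi⟩ := hisc.exists_zpow_eq (Equiv.Perm.mem_support.mp (hsupp ▸ Finset.mem_univ a))
      (Equiv.Perm.mem_support.mp (hsupp ▸ Finset.mem_univ b))
    exact ⟨⟨σ g₀ ^ i, zpow_mem (MonoidHom.mem_range.mpr ⟨g₀, rfl⟩) i⟩, hi⟩⟩
  rcases Cfsg.Agent.S0675.result hcard σ.range with hs | h2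
  · exact hnsol hs
  -- count the ordered pairs
  have hp5 : 5 ≤ p := by
    by_contra hc
    apply hnsol
    haveI : Group.IsSolvable (Equiv.Perm (Fin p)) := by
      haveI hK : Group.IsSolvable (Equiv.Perm.sign : Equiv.Perm (Fin p) →* ℤˣ).ker := by
        have hc : Nat.card (Equiv.Perm.sign : Equiv.Perm (Fin p) →* ℤˣ).ker ∣ 3 := by
          haveI : Nontrivial (Fin p) := Fin.nontrivial_iff_two_le.mpr hp.two_le
          have h1 := Subgroup.card_mul_index (Equiv.Perm.sign : Equiv.Perm (Fin p) →* ℤˣ).ker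
          rw [Subgroup.index_ker, MonoidHom.range_eq_top.mpr (Equiv.Perm.sign_surjective _), Subgroup.card_top,
            Nat.card_eq_fintype_card (α := ℤˣ), Fintype.card_units_int, Nat.card_perm, Nat.card_fin] at h1
          obtain rfl | rfl : p = 2 ∨ p = 3 := by
            have := hp.two_le
            rcases Nat.lt_or_ge p 4 with h | h
            · omega
            · exact absurd hp (by rw [show p = 4 by omega]; decide)
          · rw [show (2 : ℕ).factorial = 2 from rfl] at h1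
            exact ⟨3, by omega⟩
          · rw [show (3 : ℕ).factorial = 6 from rfl] at h1
            exact ⟨1, by omega⟩
        haveI : IsCyclic (Equiv.Perm.sign : Equiv.Perm (Fin p) →* ℤˣ).ker := by
          rcases (Nat.dvd_prime Nat.prime_three).mp hc with h | h
          · haveI := (Nat.card_eq_one_iff_unique.mp h).1; infer_instance
          · haveI : Fact (Nat.Prime 3) := ⟨Nat.prime_three⟩
            exact isCyclic_of_prime_card h
        letI : CommGroup (Equiv.Perm.sign : Equiv.Perm (Fin p) →* ℤˣ).ker := IsCyclic.commGroup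
        infer_instance
      exact Group.isSolvable_of_ker_le_range (Equiv.Perm.sign : Equiv.Perm (Fin p) →* ℤˣ).ker.subtype Equiv.Perm.sign
        (by rw [Subgroup.range_subtype])
    infer_instance
  have h0 : (0 : Fin p) ≠ ⟨1, hp.one_lt⟩ := by simp [Fin.ext_iff]
  obtain ⟨v, hv, hv0⟩ := (Submodule.ne_bot_iff _).mp (hne 0)
  obtain ⟨w, hw, hw0⟩ := (Submodule.ne_bot_iff _).mp (hne ⟨1, hp.one_lt⟩)
  haveI : Finite T := inferInstance
  have hmain : ∀ a b : Fin p, a ≠ b → ∃ t : T, ((t : Equiv.Perm (Fin p)) 0, (t : Equiv.Perm (Fin p)) ⟨1, hp.one_lt⟩) = (a, b) ∨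
      ((t : Equiv.Perm (Fin p)) ⟨1, hp.one_lt⟩, (t : Equiv.Perm (Fin p)) 0) = (a, b) := by
    intro a b hab
    obtain ⟨⟨_, h, rfl⟩, ha, hb⟩ := MulAction.is_two_pretransitive_iff.mp h2 h0 hab
    change f h 0 = a at ha
    change f h ⟨1, hp.one_lt⟩ = b at hb
    obtain ⟨g, hg, e⟩ := sylow_orbit C.orb P (v + w) h
    refine ⟨⟨σ g, Subgroup.mem_map_of_mem σ hg⟩, ?_⟩
    have hA : ρ h v ∈ W a := ha ▸ hf h 0 v hv
    have hB : ρ h w ∈ W b := hb ▸ hf h _ w hw
    have hA' := hf g 0 v hv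
    have hB' := hf g _ w hw
    rw [map_add, map_add] at e
    show (f g 0, f g ⟨1, hp.one_lt⟩) = (a, b) ∨ (f g ⟨1, hp.one_lt⟩, f g 0) = (a, b)
    set c := f g 0
    set d := f g ⟨1, hp.one_lt⟩
    have hcd : c ≠ d := fun hcd => h0 ((σ g).injective hcd)
    have mem_sup : ∀ x y : Fin p, ∀ u ∈ W x, ∀ u' ∈ W y, ∀ l : Fin p, x ≠ l → y ≠ l →
        u + u' ∈ ⨆ k, ⨆ _ : k ≠ l, W k := fun x y u hu u' hu' l hxl hyl =>
      add_mem (Submodule.mem_iSup_of_mem x (Submodule.mem_iSup_of_mem hxl hu))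
        (Submodule.mem_iSup_of_mem y (Submodule.mem_iSup_of_mem hyl hu'))
    have hin : ∀ (x y : Fin p), x ≠ y → ∀ u ∈ W x, ∀ u' ∈ W y, u ≠ 0 → ∀ (x' y' : Fin p), ∀ r ∈ W x', ∀ r' ∈ W y',
        u + u' = r + r' → x = x' ∨ x = y' := by
      intro x y hxy u hu u' hu' hu0 x' y' r hr r' hr' he
      by_contra hc
      rw [not_or] at hc
      refine hu0 (Submodule.disjoint_def.mp (hind x) u hu ?_)
      rw [eq_sub_of_add_eq he]
      exact sub_mem (mem_sup x' y' r hr r' hr' x (Ne.symm hc.1) (Ne.symm hc.2))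
        (Submodule.mem_iSup_of_mem y (Submodule.mem_iSup_of_mem hxy.symm hu'))
    rcases hin a b hab _ hA _ hB (by simpa using hv0) c d _ hA' _ hB' e.symm with h3 | h3 <;>
      rcases hin b a hab.symm _ hB _ hA (by simpa using hw0) c d _ hA' _ hB' (by rw [add_comm]; exact e.symm) with h4 | h4
    · exact absurd (h3.trans h4.symm) hab
    · exact Or.inl (by rw [h3, h4])
    · exact Or.inr (by rw [h3, h4])
    · exact absurd (h3.trans h4.symm) hab
  have hle : Nat.card {ab : Fin p × Fin p // ab.1 ≠ ab.2} ≤ Nat.card (T ⊕ T) := by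
    choose t ht using fun ab : {ab : Fin p × Fin p // ab.1 ≠ ab.2} => hmain ab.1.1 ab.1.2 ab.2
    let code : {ab : Fin p × Fin p // ab.1 ≠ ab.2} → T ⊕ T := fun ab =>
      if ((t ab : Equiv.Perm (Fin p)) 0, (t ab : Equiv.Perm (Fin p)) ⟨1, hp.one_lt⟩) = ab.1 then Sum.inl (t ab)
      else Sum.inr (t ab)
    let dec : T ⊕ T → Fin p × Fin p := Sum.elim
      (fun t => ((t : Equiv.Perm (Fin p)) 0, (t : Equiv.Perm (Fin p)) ⟨1, hp.one_lt⟩))
      (fun t => ((t : Equiv.Perm (Fin p)) ⟨1, hp.one_lt⟩, (t : Equiv.Perm (Fin p)) 0))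
    refine Nat.card_le_card_of_injective code fun x y hxy => Subtype.ext ?_
    have key : ∀ ab, dec (code ab) = ab.1 := fun ab => by
      rcases ht ab with h | h <;> simp only [code]
      · rw [if_pos h]; exact h
      · split_ifs with h'
        · exact h'
        · exact h
    rw [← key x, ← key y, hxy]
  rw [Nat.card_sum] at hle
  have hoff : Nat.card {ab : Fin p × Fin p // ab.1 ≠ ab.2} = p * p - p := by
    rw [Nat.card_eq_fintype_card, Fintype.card_subtype]
    have : (Finset.univ.filter fun ab : Fin p × Fin p => ab.1 ≠ ab.2) = (Finset.univ : Finset (Fin p)).offDiag := by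
      ext ab; simp
    rw [this, Finset.offDiag_card]
    simp
  rw [hoff] at hle
  have : p * 4 ≤ p * (p - 1) := Nat.mul_le_mul_left p (by omega)
  rw [Nat.mul_sub_one] at this
  omega

end Cfsg.Lib.OrbitPPower
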