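import Cfsg.Agent.ClassSize.Orbit.Two
import Cfsg.Agent.Recognition.PGroupInduced

/-!
A group acting coprimely on a vector space over a prime field with all orbits of `p`-power
size is solvable.
-/

set_option autoImplicit false
set_option linter.unusedSectionVars false
set_option linter.unusedVariables false
set_option linter.style.haveILetI false

namespace Cfsg.Lib.OrbitPPower

open Cfsg.Lib Subgroup
open Cfsg.Lib.HalfTrans (St mem_St mul_apply one_apply inv_apply_self orbit_mul_St)

variable {q p : ℕ} [Fact q.Prime] [Fact p.Prime]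

universe u v

theorem Crit.false {V : Type v} [AddCommGroup V] [Module (ZMod q) V] [Finite V] [Nontrivial V]
    {H : Type u} [Group H] [Finite H] {ρ : H →* (V ≃ₗ[ZMod q] V)} (C : Crit ρ p) : False := by
  obtain ⟨P⟩ : Nonempty (Sylow p H) := inferInstance
  have hp : p.Prime := Fact.out
  have hnc : ¬ IsCyclic (P : Subgroup H) := by
    rcases eq_or_ne p 2 with rfl | hp2
    · exact C.not_cyclic_two P
    · exact C.not_cyclic_odd hp2 P
  obtain ⟨N, hN⟩ := IsPGroup.iff_card.mp P.2
  have hp2of : ∀ c : ℕ, Nat.card (P : Subgroup H) = 2 * c → p = 2 := fun c hc => by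
    have h2 : 2 ∣ p ^ N := ⟨c, by rw [← hN, hc]⟩
    exact ((Nat.prime_dvd_prime_iff_eq Nat.prime_two hp).mp (Nat.prime_two.dvd_of_dvd_pow h2)).symm
  have hnd : ∀ n : ℕ, ¬ Nonempty ((P : Subgroup H) ≃* DihedralGroup n) := by
    rintro n ⟨e⟩
    obtain rfl : p = 2 := hp2of n (by rw [Nat.card_congr e.toEquiv, DihedralGroup.nat_card])
    exact (C.not_dihedral P n).false e
  have hnq : ∀ n : ℕ, ¬ Nonempty ((P : Subgroup H) ≃* QuaternionGroup n) := by
    rintro n ⟨e⟩
    rcases Nat.eq_zero_or_pos n with rfl | hn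
    · exact hnd 0 ⟨e.trans QuaternionGroup.quaternionGroupZeroEquivDihedralGroupZero⟩
    haveI : NeZero n := ⟨hn.ne'⟩
    obtain rfl : p = 2 := hp2of (2 * n) (by
      rw [Nat.card_congr e.toEquiv, Nat.card_eq_fintype_card, QuaternionGroup.card]; ring)
    exact (C.not_quaternion P n).false e
  have hnsd : ¬ Cfsg.IsQuasiDihedral (P : Subgroup H) := by
    intro hq
    obtain ⟨m, a, b, hm, hg⟩ := Cfsg.Lib.QD.exists_gen hq
    obtain rfl : p = 2 := hp2of (2 ^ m) (by rw [hg.card, pow_succ'])
    exact C.not_quasiDihedral P hq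
  let ρP := ρ.comp (P : Subgroup H).subtype
  obtain ⟨K, W, hK, htop, hind, hstab, -, hperm⟩ := Cfsg.Lib.PGroupInduced.induced (p := p) q P.2 ρP
    (C.inj.comp (P : Subgroup H).subtype_injective)
    (fun U hU => C.sylow_irr P U fun g hg => hU ⟨g, hg⟩) hnc hnq hnd hnsd
  obtain ⟨g, hg⟩ : ∃ g, g ∉ K := by
    by_contra h
    push Not at h
    rw [(eq_top_iff.mpr fun x _ => h x : K = ⊤), Subgroup.index_top] at hK
    exact hp.ne_one hK.symm
  obtain ⟨σ, hσ, hσW⟩ := hperm g hg
  have hfix : ∀ i, σ i ≠ i := by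
    intro i hi
    have hc : σ.IsCycle := Equiv.Perm.isCycle_of_prime_order'' (by rwa [Fintype.card_fin]) (by rw [hσ, Fintype.card_fin])
    have hsupp : σ.support = Finset.univ := Finset.eq_univ_of_card _ (by rw [← hc.orderOf, hσ, Fintype.card_fin])
    exact Equiv.Perm.mem_support.mp (hsupp ▸ Finset.mem_univ i) hi
  have hne : ∀ i, W i ≠ ⊥ := by
    intro i hi
    have hall : ∀ n : ℕ, W ((σ ^ n) i) = ⊥ := by
      intro n
      induction n with
      | zero => simpa using hi
      | succ n ih => rw [pow_succ', Equiv.Perm.mul_apply, ← hσW, ih, Submodule.map_bot]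
    have hc : σ.IsCycle := Equiv.Perm.isCycle_of_prime_order'' (by rwa [Fintype.card_fin]) (by rw [hσ, Fintype.card_fin])
    rw [iSup_eq_bot.mpr fun j => by
      obtain ⟨n, rfl⟩ := hc.exists_pow_eq (hfix i) (hfix j)
      exact hall n] at htop
    exact bot_ne_top htop
  refine C.no_blocks P W htop hind hne (fun y hy i => ?_) ?_
  · by_cases hyK : (⟨y, hy⟩ : (P : Subgroup H)) ∈ K
    · exact ⟨i, fun w hw => hstab _ hyK i w hw⟩
    · obtain ⟨τ, -, hτ⟩ := hperm _ hyK
      exact ⟨τ i, fun w hw => hτ i ▸ ⟨w, hw, rfl⟩⟩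
  · obtain ⟨w, hw, hw0⟩ := (Submodule.ne_bot_iff _).mp (hne ⟨0, hp.pos⟩)
    refine ⟨g, g.2, ⟨0, hp.pos⟩, w, hw, fun hc => hw0 ?_⟩
    have h1 : ρ g w ∈ W (σ ⟨0, hp.pos⟩) := hσW ⟨0, hp.pos⟩ ▸ ⟨w, hw, rfl⟩
    simpa using Submodule.disjoint_def.mp (hind.pairwiseDisjoint (hfix ⟨0, hp.pos⟩).symm) _ hc h1

/-- Restriction to an invariant subspace. -/
noncomputable def restrictHom {V : Type v} [AddCommGroup V] [Module (ZMod q) V] {H : Type u} [Group H]
    (ρ : H →* (V ≃ₗ[ZMod q] V)) (U : Submodule (ZMod q) V) (hU : ∀ g : H, ∀ w ∈ U, ρ g w ∈ U) :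
    H →* (U ≃ₗ[ZMod q] U) where
  toFun g := LinearEquiv.ofLinear ((ρ g : V →ₗ[ZMod q] V).restrict (hU g))
    ((ρ g⁻¹ : V →ₗ[ZMod q] V).restrict (hU g⁻¹))
    (LinearMap.ext fun w => Subtype.ext (by
      show ρ g (ρ g⁻¹ (w : V)) = w
      rw [← mul_apply, mul_inv_cancel, one_apply]))
    (LinearMap.ext fun w => Subtype.ext (inv_apply_self g (w : V)))
  map_one' := LinearEquiv.ext fun w => Subtype.ext (one_apply (w : V))
  map_mul' a b := LinearEquiv.ext fun w => Subtype.ext (mul_apply a b (w : V))

/-- An invariant subspace has an invariant complement. -/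
theorem exists_invariant_compl {V : Type v} [AddCommGroup V] [Module (ZMod q) V] {H : Type u} [Group H] [Finite H]
    (ρ : H →* (V ≃ₗ[ZMod q] V)) (hcop : ¬ q ∣ Nat.card H) (U : Submodule (ZMod q) V)
    (hU : ∀ g : H, ∀ w ∈ U, ρ g w ∈ U) :
    ∃ U' : Submodule (ZMod q) V, IsCompl U U' ∧ ∀ g : H, ∀ w ∈ U', ρ g w ∈ U' := by
  let R : Representation (ZMod q) H V :=
    { toFun := fun g => (ρ g : V →ₗ[ZMod q] V)
      map_one' := LinearMap.ext fun w => one_apply w
      map_mul' := fun a b => LinearMap.ext fun w => mul_apply a b w }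
  haveI : NeZero (Nat.card H : ZMod q) := ⟨fun h => hcop ((ZMod.natCast_eq_zero_iff _ _).mp h)⟩
  obtain ⟨T, hT⟩ := exists_isCompl (⟨U, fun g w hw => hU g w hw⟩ : Subrepresentation R)
  refine ⟨T.toSubmodule, ⟨disjoint_iff.2 ?_, codisjoint_iff.2 ?_⟩, fun g w hw => T.apply_mem_toSubmodule g hw⟩
  · have h := congrArg Subrepresentation.toSubmodule hT.inf_eq_bot
    rw [Subrepresentation.toSubmodule_inf] at h
    exact h
  · have h := congrArg Subrepresentation.toSubmodule hT.sup_eq_top
    rw [Subrepresentation.toSubmodule_sup] at h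
    exact h

theorem solvable_aux : ∀ (n : ℕ) (V : Type v) [AddCommGroup V] [Module (ZMod q) V] [Finite V]
    (H : Type u) [Group H] [Finite H] (ρ : H →* (V ≃ₗ[ZMod q] V)), Nat.card H + Nat.card V ≤ n →
    Function.Injective ρ → POrb ρ p → ¬ q ∣ Nat.card H → Group.IsSolvable H := by
  intro n
  induction n with
  | zero =>
    intro V _ _ _ H _ _ ρ hle
    have := Nat.card_pos (α := H)
    omega
  | succ n ih =>
    intro V _ _ _ H _ _ ρ hle hinj horb hcop
    by_contra hns
    have hH1 : 2 ≤ Nat.card H := by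
      by_contra h
      haveI : Subsingleton H := (Finite.card_le_one_iff_subsingleton).mp (by omega)
      exact hns (Group.isSolvable_of_top_eq_bot H (Subsingleton.elim _ _))
    haveI : Nontrivial V := by
      by_contra h
      rw [not_nontrivial_iff_subsingleton] at h
      haveI : Subsingleton H := ⟨fun a b => hinj (LinearEquiv.ext fun w => Subsingleton.elim _ _)⟩
      exact hns (Group.isSolvable_of_top_eq_bot H (Subsingleton.elim _ _))
    have sub : ∀ N : Subgroup H, N.Normal → N ≠ ⊤ → Group.IsSolvable N := by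
      intro N hN hNtop
      haveI := hN
      refine ih V N (ρ.comp N.subtype) ?_ (hinj.comp N.subtype_injective) (fun v => ?_) fun h =>
        hcop (h.trans (Subgroup.card_subgroup_dvd_card N))
      · have hlt : Nat.card N < Nat.card H := lt_of_le_of_ne (Nat.le_of_dvd Nat.card_pos (Subgroup.card_subgroup_dvd_card N))
          fun h => hNtop (Subgroup.eq_top_of_card_eq N h)
        omega
      · obtain ⟨a, ha⟩ := horb v
        have h1 : (St (ρ.comp N.subtype) v).index ∣ p ^ a := by
          have e : St (ρ.comp N.subtype) v = (St ρ v).subgroupOf N := rfl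
          rw [e, ← ha]
          show (St ρ v).relIndex N ∣ (St ρ v).index
          have h2 := Subgroup.card_subgroup_dvd_card (St ρ v ⊔ N)
          rw [← Subgroup.relIndex_bot_left, ← Subgroup.relIndex_mul_relIndex ⊥ N _ bot_le le_sup_right,
            Subgroup.relIndex_sup_right, Subgroup.relIndex_bot_left, ← Subgroup.card_mul_index (St ρ v)] at h2
          have h3 : Nat.card N = Nat.card ↥(St ρ v ⊓ N) * (St ρ v).relIndex N := by
            rw [← Subgroup.relIndex_bot_left, ← Subgroup.relIndex_bot_left, ← Subgroup.inf_relIndex_right (St ρ v) N,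
              Subgroup.relIndex_mul_relIndex ⊥ _ N bot_le inf_le_right]
          have h4 : Nat.card (St ρ v) = Nat.card ↥(St ρ v ⊓ N) * N.relIndex (St ρ v) := by
            rw [← Subgroup.relIndex_bot_left, ← Subgroup.relIndex_bot_left, ← Subgroup.inf_relIndex_left (St ρ v) N,
              Subgroup.relIndex_mul_relIndex ⊥ _ _ bot_le inf_le_left]
          rw [h3, show Nat.card ↥(St ρ v ⊓ N) * (St ρ v).relIndex N * N.relIndex (St ρ v) =
            Nat.card (St ρ v) * (St ρ v).relIndex N by rw [h4]; ring] at h2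
          exact Nat.dvd_of_mul_dvd_mul_left Nat.card_pos h2
        exact ((Nat.dvd_prime_pow Fact.out).mp h1).imp fun b hb => hb.2
    have perf : commutator H = ⊤ := by
      by_contra hne
      haveI := sub _ inferInstance hne
      haveI : Group.IsSolvable (Abelianization H) := Group.isSolvable_of_comm fun a b => mul_comm a b
      exact hns (Group.isSolvable_of_ker_le_range (commutator H).subtype Abelianization.of (by
        rw [Abelianization.ker_of, Subgroup.range_subtype]))
    refine Crit.false (ρ := ρ) (p := p) ⟨hinj, horb, hcop, perf, hns, sub, fun U hU => ?_⟩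
    by_contra hc
    rw [not_or] at hc
    obtain ⟨U', hcompl, hU'⟩ := exists_invariant_compl ρ hcop U hU
    have hU'1 : U' ≠ ⊤ := by
      rintro rfl
      exact hc.1 (by simpa using hcompl.inf_eq_bot)
    have key : ∀ (X : Submodule (ZMod q) V) (hX : ∀ g : H, ∀ w ∈ X, ρ g w ∈ X), X ≠ ⊤ →
        (restrictHom ρ X hX).ker = ⊤ := by
      intro X hX hXtop
      by_contra hker
      set f := restrictHom ρ X hX
      haveI := sub f.ker inferInstance hker
      have hsol : Group.IsSolvable (H ⧸ f.ker) := by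
        refine ih X (H ⧸ f.ker) (QuotientGroup.kerLift f) ?_ (QuotientGroup.kerLift_injective f) (fun w => ?_)
          fun h => hcop (h.trans (Subgroup.card_quotient_dvd_card _))
        · have h1 : Nat.card X < Nat.card V := by
            rw [Module.natCard_eq_pow_finrank (K := ZMod q) (V := X), Module.natCard_eq_pow_finrank (K := ZMod q) (V := V),
              Nat.card_zmod]
            exact Nat.pow_lt_pow_right (Fact.out : q.Prime).one_lt (Submodule.finrank_lt hXtop)
          have h2 : Nat.card (H ⧸ f.ker) ≤ Nat.card H := Nat.card_le_card_of_surjective _ (QuotientGroup.mk_surjective)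
          omega
        · obtain ⟨a, ha⟩ := horb (w : V)
          refine ⟨a, ?_⟩
          rw [← ha, ← Subgroup.index_comap_of_surjective _ (QuotientGroup.mk'_surjective f.ker)]
          congr 1
          ext g
          show f g w = w ↔ ρ g w = w
          exact ⟨fun h => congrArg Subtype.val h, fun h => Subtype.ext h⟩
      exact hns (Group.isSolvable_of_ker_le_range f.ker.subtype (QuotientGroup.mk' f.ker) (by
        rw [QuotientGroup.ker_mk', Subgroup.range_subtype]))
    have k1 := key U hU hc.2
    have k2 := key U' hU' hU'1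
    haveI : Subsingleton H := by
      refine subsingleton_of_forall_eq 1 fun g => hinj (LinearEquiv.ext fun v => ?_)
      rw [map_one]
      obtain ⟨a, ha, b, hb, rfl⟩ := Submodule.mem_sup.mp (hcompl.sup_eq_top ▸ Submodule.mem_top : v ∈ U ⊔ U')
      have m1 : g ∈ (restrictHom ρ U hU).ker := by rw [k1]; exact Subgroup.mem_top g
      have m2 : g ∈ (restrictHom ρ U' hU').ker := by rw [k2]; exact Subgroup.mem_top g
      have e1 : ρ g a = a := congrArg Subtype.val (LinearEquiv.congr_fun (MonoidHom.mem_ker.mp m1) (⟨a, ha⟩ : U))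
      have e2 : ρ g b = b := congrArg Subtype.val (LinearEquiv.congr_fun (MonoidHom.mem_ker.mp m2) (⟨b, hb⟩ : U'))
      show ρ g (a + b) = a + b
      rw [map_add]
      exact congrArg₂ (· + ·) e1 e2
    exact hns (Group.isSolvable_of_top_eq_bot H (Subsingleton.elim _ _))

theorem solvable_of_orbits {V : Type v} [AddCommGroup V] [Module (ZMod q) V] [Finite V]
    {H : Type u} [Group H] [Finite H] (ρ : H →* (V ≃ₗ[ZMod q] V)) (hinj : Function.Injective ρ)
    (horb : POrb ρ p) (hcop : ¬ q ∣ Nat.card H) : Group.IsSolvable H :=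
  solvable_aux _ V H ρ le_rfl hinj horb hcop

end Cfsg.Lib.OrbitPPower
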