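import Cfsg.Agent.ClassSize.Orbit.Basic
import Cfsg.Agent.S3972

/-!
The critical configuration cannot have a cyclic Sylow `p`-subgroup for odd `p`.
-/

set_option autoImplicit false
set_option linter.unusedSectionVars false
set_option linter.unusedVariables false
set_option linter.style.haveILetI false

namespace Cfsg.Lib.OrbitPPower

open Cfsg.Lib Subgroup
open Cfsg.Lib.HalfTrans (St mem_St mul_apply one_apply inv_apply_self orbit_mul_St)

variable {q p : ℕ} [Fact q.Prime] [Fact p.Prime] {V : Type*} [AddCommGroup V] [Module (ZMod q) V]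
variable {H : Type*} [Group H] {ρ : H →* (V ≃ₗ[ZMod q] V)}
variable [Finite H] (C : Crit ρ p)
include C

theorem Crit.transfer_kills (P : Sylow p H) (hP : IsMulCommutative (P : Subgroup H)) {a : H}
    (haP : a ∈ (P : Subgroup H)) (ha : a ∈ center H) : a = 1 := by
  classical
  letI : CommGroup (P : Subgroup H) :=
    { (inferInstance : Group (P : Subgroup H)) with mul_comm := fun u v => hP.is_comm.comm u v }
  let τ : H →* (P : Subgroup H) := MonoidHom.transfer (MonoidHom.id (P : Subgroup H))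
  have h1 := C.hom_trivial_comm τ a
  have key : ∀ (k : ℕ) (g₀ : H), g₀⁻¹ * a ^ k * g₀ ∈ (P : Subgroup H) → g₀⁻¹ * a ^ k * g₀ = a ^ k := by
    intro k g₀ _
    rw [mul_assoc, ← mem_center_iff.mp (pow_mem ha k) g₀, inv_mul_cancel_left]
  have h2 : τ a = _ := MonoidHom.transfer_eq_pow (MonoidHom.id (P : Subgroup H)) a key
  rw [h1] at h2
  have h3 : a ^ (P : Subgroup H).index = 1 := (congrArg Subtype.val h2).symm
  obtain ⟨n, hn⟩ := IsPGroup.iff_orderOf.mp P.2 ⟨a, haP⟩
  rw [Subgroup.orderOf_mk] at hn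
  have hd := orderOf_dvd_of_pow_eq_one h3
  rw [hn] at hd
  have hnd : ¬ p ∣ (P : Subgroup H).index := by
    haveI : (P : Subgroup H).FiniteIndex := inferInstance
    exact P.not_dvd_index
  rcases n with _ | n
  · rwa [pow_zero, orderOf_eq_one_iff] at hn
  · exact absurd ((dvd_pow_self p n.succ_ne_zero).trans hd) hnd

/-- Abelian normal subgroups lie in the Sylow subgroup. -/
theorem Crit.abelian_le (P : Sylow p H) (A : Subgroup H) [A.Normal] (hA : IsMulCommutative A) :
    A ≤ (P : Subgroup H) := by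
  have hpp : p.Prime := Fact.out
  have hAp : IsPGroup p A := by
    rintro ⟨a, ha⟩
    set n := orderOf a
    have hn : 0 < n := orderOf_pos a
    obtain ⟨t, m, hm, hnm⟩ := Nat.exists_eq_pow_mul_and_not_dvd hn.ne' p hpp.ne_one
    refine ⟨t, Subtype.ext ?_⟩
    show a ^ p ^ t = 1
    set b := a ^ p ^ t
    have hbA : b ∈ A := pow_mem ha _
    have hbo : orderOf b ∣ m := by
      apply orderOf_dvd_of_pow_eq_one
      rw [← pow_mul, ← hnm]
      exact pow_orderOf_eq_one a
    refine HalfTrans.faithful C.inj fun v => ?_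
    obtain ⟨c, hc⟩ := C.orb v
    have h1 : (St ρ v).relIndex A ∣ p ^ c := by
      rw [← hc]
      have h1 := Subgroup.card_subgroup_dvd_card (St ρ v ⊔ A)
      rw [← Subgroup.relIndex_bot_left, ← Subgroup.relIndex_mul_relIndex ⊥ A _ bot_le le_sup_right,
        Subgroup.relIndex_sup_right, Subgroup.relIndex_bot_left, ← Subgroup.card_mul_index (St ρ v)] at h1
      have h2 : Nat.card A = Nat.card ↥(St ρ v ⊓ A) * (St ρ v).relIndex A := by
        rw [← Subgroup.relIndex_bot_left, ← Subgroup.relIndex_bot_left, ← Subgroup.inf_relIndex_right (St ρ v) A,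
          Subgroup.relIndex_mul_relIndex ⊥ _ A bot_le inf_le_right]
      have h3 : Nat.card (St ρ v) = Nat.card ↥(St ρ v ⊓ A) * A.relIndex (St ρ v) := by
        rw [← Subgroup.relIndex_bot_left, ← Subgroup.relIndex_bot_left, ← Subgroup.inf_relIndex_left (St ρ v) A,
          Subgroup.relIndex_mul_relIndex ⊥ _ _ bot_le inf_le_left]
      rw [h2, show Nat.card ↥(St ρ v ⊓ A) * (St ρ v).relIndex A * A.relIndex (St ρ v) =
        Nat.card (St ρ v) * (St ρ v).relIndex A by rw [h3]; ring] at h1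
      exact Nat.dvd_of_mul_dvd_mul_left Nat.card_pos h1
    haveI hN : ((St ρ v).subgroupOf A).Normal := ⟨fun x hx g => by
      have hcomm : g * x = x * g := hA.is_comm.comm g x
      rwa [hcomm, mul_inv_cancel_right]⟩
    have h2 : (⟨b, hbA⟩ : A) ^ (St ρ v).relIndex A ∈ (St ρ v).subgroupOf A :=
      Subgroup.pow_index_mem _ _
    have h3 : b ^ (St ρ v).relIndex A ∈ St ρ v := h2
    have hcop : (orderOf b).Coprime ((St ρ v).relIndex A) :=
      Nat.Coprime.coprime_dvd_left hbo (Nat.Coprime.coprime_dvd_right h1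
        (Nat.Coprime.pow_right c ((Nat.Prime.coprime_iff_not_dvd hpp).mpr hm).symm))
    obtain ⟨u, hu⟩ := exists_pow_eq_self_of_coprime hcop.symm
    rw [← mem_St, ← hu]
    exact pow_mem h3 u
  obtain ⟨Q, hQ⟩ := hAp.exists_le_sylow
  obtain ⟨g, rfl⟩ := MulAction.exists_smul_eq H Q P
  intro a ha
  have : g⁻¹ * a * g ∈ A := by simpa using (inferInstance : A.Normal).conj_mem a ha g⁻¹
  rw [Sylow.coe_subgroup_smul, Subgroup.mem_pointwise_smul_iff_inv_smul_mem]
  simpa [MulAut.smul_def] using hQ this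

theorem Crit.normal_eq_bot (P : Sylow p H) (hP : IsCyclic (P : Subgroup H)) (M : Subgroup H) [hMn : M.Normal]
    (hM : M ≠ ⊤) : M = ⊥ := by
  classical
  by_contra hne
  have hsol := C.sub M hMn hM
  obtain ⟨A, -, hA⟩ := Set.Finite.exists_le_minimal (Set.toFinite {A : Subgroup H | A.Normal ∧ A ≠ ⊥ ∧ A ≤ M})
    (show M ∈ {A : Subgroup H | A.Normal ∧ A ≠ ⊥ ∧ A ≤ M} from ⟨hMn, hne, le_rfl⟩)
  obtain ⟨⟨hAn, hAne, hAM⟩, hAmin⟩ := hA
  haveI := hAn
  haveI : Group.IsSolvable A := by
    haveI := hsol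
    exact Group.isSolvable_of_isSolvable_injective (inclusion_injective hAM)
  haveI : Nontrivial A := (Subgroup.nontrivial_iff_ne_bot A).mpr hAne
  have hcomm : ⁅A, A⁆ = ⊥ := by
    by_contra hc
    have h1 : A ≤ ⁅A, A⁆ := hAmin ⟨inferInstance, hc, (Subgroup.commutator_le_self A).trans hAM⟩
      (Subgroup.commutator_le_self A)
    apply (Group.IsSolvable.commutator_lt_top_of_nontrivial A).ne
    apply Subgroup.map_injective A.subtype_injective
    rw [Subgroup.map_subtype_commutator, ← MonoidHom.range_eq_map, Subgroup.range_subtype]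
    exact le_antisymm (Subgroup.commutator_le_self A) h1
  have hAc : IsMulCommutative A := ⟨⟨fun a b => Subtype.ext (by
    have := Subgroup.commutator_mem_commutator a.2 b.2
    rw [hcomm, Subgroup.mem_bot, commutatorElement_eq_one_iff_mul_comm] at this
    exact this)⟩⟩
  have hAP := C.abelian_le P A hAc
  haveI : IsCyclic A := isCyclic_of_injective (inclusion hAP) (inclusion_injective hAP)
  let f : H →* MulAut A := MulAut.conjNormal
  have hfs : Group.IsSolvable f.range := by
    have hc : ∀ φ ψ : MulAut A, φ * ψ = ψ * φ := fun φ ψ => by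
      obtain ⟨a, ha⟩ := MonoidHom.map_cyclic φ.toMonoidHom
      obtain ⟨b, hb⟩ := MonoidHom.map_cyclic ψ.toMonoidHom
      refine MulEquiv.ext fun x => ?_
      show φ (ψ x) = ψ (φ x)
      have ha' : ∀ y, φ y = y ^ a := ha
      have hb' : ∀ y, ψ y = y ^ b := hb
      rw [ha', hb', hb', ha', ← zpow_mul, ← zpow_mul, mul_comm]
    letI : CommGroup f.range := { (inferInstance : Group f.range) with mul_comm := fun a b => Subtype.ext (hc a b) }
    infer_instance
  obtain ⟨⟨a, haA⟩, ha1⟩ := exists_ne (1 : A)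
  have hacen : a ∈ center H := mem_center_iff.mpr fun g => by
    have h1 := congrArg Subtype.val (DFunLike.congr_fun (C.hom_trivial f hfs g) ⟨a, haA⟩)
    have h2 : g * a * g⁻¹ = a := by simpa [f, MulAut.conjNormal_apply] using h1
    exact mul_inv_eq_iff_eq_mul.mp h2
  exact ha1 (Subtype.ext (C.transfer_kills P (IsCyclic.isMulCommutative) (hAP haA) hacen))

/-- For odd `p` the Sylow subgroup is not cyclic. -/
theorem Crit.not_cyclic_odd [Finite V] [Nontrivial V] (hp2 : p ≠ 2) (P : Sylow p H) :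
    ¬ IsCyclic (P : Subgroup H) := by
  classical
  intro hP
  have hp : p.Prime := Fact.out
  obtain ⟨g', hg'⟩ := IsCyclic.exists_generator (α := (P : Subgroup H))
  set g : H := (g' : H) with hgdef
  have hgP : g ∈ (P : Subgroup H) := g'.2
  set k := orderOf g with hkdef
  have hk0 : 0 < k := orderOf_pos g
  have hkP : k = Nat.card (P : Subgroup H) := by
    rw [hkdef, hgdef, Subgroup.orderOf_coe, orderOf_eq_card_of_forall_mem_zpowers hg']
  obtain ⟨m, hm⟩ := IsPGroup.iff_card.mp P.2
  rw [← hkP] at hm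
  have hm0 : m ≠ 0 := fun h0 => C.sylow_ne_bot P (Subgroup.eq_bot_of_card_eq _ (by rw [← hkP, hm, h0, pow_zero]))
  have hpows : ∀ y ∈ (P : Subgroup H), ∃ i : ℕ, y = g ^ i := fun y hy => by
    obtain ⟨i, hi⟩ := mem_powers_iff_mem_zpowers.mpr (hg' ⟨y, hy⟩)
    exact ⟨i, by rw [hgdef, ← Subgroup.coe_pow]; exact (congrArg Subtype.val hi).symm⟩
  set z := g ^ (p ^ (m - 1)) with hzdef
  have hzo : orderOf z = p := by
    rw [hzdef, orderOf_pow_of_dvd (pow_ne_zero _ hp.ne_zero), ← hkdef, hm, Nat.pow_div (by omega) hp.pos,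
      show m - (m - 1) = 1 by omega, pow_one]
    rw [← hkdef, hm]
    exact pow_dvd_pow p (by omega)
  have hz1 : z ≠ 1 := fun e => by rw [e, orderOf_one] at hzo; exact hp.ne_one hzo.symm
  -- powers of the generator act without fixed points
  have hfree : ∀ i : ℕ, ¬ k ∣ i → ∀ v : V, ρ (g ^ i) v = v → v = 0 := by
    intro i hi v hv
    refine C.central_fpf P (z := g ^ i) (fun y hy => ?_) (fun e => hi (orderOf_dvd_of_pow_eq_one e)) hv
    obtain ⟨j, rfl⟩ := hpows y hy
    rw [← pow_add, ← pow_add, add_comm]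
  have hpinj : ∀ v : V, v ≠ 0 → ∀ i j : ℕ, i < k → j < k → ρ (g ^ i) v = ρ (g ^ j) v → i = j := by
    intro v hv
    suffices ∀ i j : ℕ, i ≤ j → j < k → ρ (g ^ i) v = ρ (g ^ j) v → i = j by
      intro i j hi hj e
      rcases le_total i j with h | h
      · exact this i j h hj e
      · exact (this j i h hi e.symm).symm
    intro i j hij hj e
    by_contra hne
    refine hv (hfree (j - i) (Nat.not_dvd_of_pos_of_lt (by omega) (by omega)) v ?_)
    apply (ρ (g ^ i)).injective
    rw [← mul_apply, ← pow_add, show i + (j - i) = j by omega, e]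
  obtain ⟨x, hx⟩ := exists_ne (0 : V)
  -- the action on the orbit of x
  letI : MulAction H V :=
    { smul := fun h v => ρ h v
      one_smul := fun v => one_apply v
      mul_smul := fun a b v => mul_apply a b v }
  set Ω := ↥(MulAction.orbit H x)
  haveI : Finite Ω := Finite.of_surjective (fun h : H => (⟨h • x, MulAction.mem_orbit x h⟩ : Ω))
    (fun ⟨y, h, hh⟩ => ⟨h, Subtype.ext hh⟩)
  letI : Fintype Ω := Fintype.ofFinite _
  let o : Ω := ⟨x, MulAction.mem_orbit_self x⟩
  have hsurj : ∀ y : Ω, ∃ i, i < k ∧ (y : V) = ρ (g ^ i) x := by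
    rintro ⟨_, h, rfl⟩
    obtain ⟨y, hy, e⟩ := sylow_orbit C.orb P x h
    obtain ⟨i, rfl⟩ := hpows y hy
    refine ⟨i % k, Nat.mod_lt _ hk0, ?_⟩
    rw [hkdef, pow_mod_orderOf]
    exact e.symm
  have hΩ : Fintype.card Ω = k := by
    rw [← Fintype.card_fin k]
    refine (Fintype.card_congr (Equiv.ofBijective (fun i : Fin k => (g ^ (i : ℕ) • o : Ω)) ⟨fun a b e => ?_, fun y => ?_⟩)).symm
    · exact Fin.ext (hpinj x hx a b a.2 b.2 (congrArg Subtype.val e))
    · obtain ⟨i, hi, e⟩ := hsurj y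
      exact ⟨⟨i, hi⟩, Subtype.ext e.symm⟩
  let σ : H →* Equiv.Perm Ω := MulAction.toPermHom H Ω
  haveI htr : MulAction.IsPretransitive σ.range Ω := ⟨fun a b => by
    obtain ⟨h, hh⟩ := MulAction.exists_smul_eq H a b
    exact ⟨⟨σ h, MonoidHom.mem_range.mpr ⟨h, rfl⟩⟩, hh⟩⟩
  have hσz : σ z ≠ 1 := fun e => hz1 (by
    have h1 : ρ z x = x := congrArg (fun t : Equiv.Perm Ω => ((t o : Ω) : V)) e
    exact absurd (C.central_fpf P (z := z) (fun y hy => by
      obtain ⟨j, rfl⟩ := hpows y hy
      rw [hzdef, ← pow_add, ← pow_add, add_comm]) hz1 h1) hx)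
  have hnsol : ¬ Group.IsSolvable σ.range := fun hs => hσz (C.hom_trivial σ hs z)
  have hk3 : 3 < k := by
    rcases Nat.lt_or_ge 3 k with h | h
    · exact h
    exfalso
    refine hnsol ?_
    have h3 : 3 ≤ p := by
      have := hp.two_le
      omega
    have hpk : p ≤ k := hm ▸ Nat.le_self_pow hm0 p
    have hΩ3 : Fintype.card Ω = 3 := by omega
    haveI : Group.IsSolvable (Equiv.Perm Ω) := by
      haveI hK : Group.IsSolvable (Equiv.Perm.sign : Equiv.Perm Ω →* ℤˣ).ker := by
        have hc : Nat.card (Equiv.Perm.sign : Equiv.Perm Ω →* ℤˣ).ker = 3 := by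
          haveI : Nontrivial Ω := Fintype.one_lt_card_iff_nontrivial.mp (by omega)
          have h1 := Subgroup.card_mul_index (Equiv.Perm.sign : Equiv.Perm Ω →* ℤˣ).ker
          rw [Subgroup.index_ker, MonoidHom.range_eq_top.mpr (Equiv.Perm.sign_surjective _), Subgroup.card_top,
            Nat.card_eq_fintype_card (α := ℤˣ), Fintype.card_units_int, Nat.card_perm, Nat.card_eq_fintype_card (α := Ω),
            hΩ3, show (3 : ℕ).factorial = 6 from rfl] at h1
          omega
        haveI : Fact (Nat.Prime 3) := ⟨Nat.prime_three⟩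
        haveI : IsCyclic (Equiv.Perm.sign : Equiv.Perm Ω →* ℤˣ).ker := isCyclic_of_prime_card hc
        letI : CommGroup (Equiv.Perm.sign : Equiv.Perm Ω →* ℤˣ).ker := IsCyclic.commGroup
        infer_instance
      exact Group.isSolvable_of_ker_le_range (Equiv.Perm.sign : Equiv.Perm Ω →* ℤˣ).ker.subtype Equiv.Perm.sign
        (by rw [Subgroup.range_subtype])
    infer_instance
  have h2 : MulAction.IsMultiplyPretransitive σ.range Ω 2 := by
    by_cases hm1 : m = 1
    · refine (Cfsg.Agent.S0675.result ?_ σ.range).resolve_left hnsol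
      rw [hΩ, hm, hm1, pow_one]; exact hp
    · by_contra hn2
      have hsg : orderOf (⟨σ g, MonoidHom.mem_range.mpr ⟨g, rfl⟩⟩ : σ.range) = p ^ m := by
        rw [← Subgroup.orderOf_coe, ← hm]
        refine (orderOf_eq_iff hk0).mpr ⟨by rw [← map_pow, hkdef, pow_orderOf_eq_one, map_one], fun i hi hi0 e => ?_⟩
        have h1 : ρ (g ^ i) x = x := by
          rw [← map_pow] at e
          exact congrArg (fun t : Equiv.Perm Ω => ((t o : Ω) : V)) e
        exact hx (hfree i (Nat.not_dvd_of_pos_of_lt hi0 hi) x h1)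
      obtain ⟨-, hint⟩ := Cfsg.Agent.S3972.result p m hp (by omega) (by rw [hΩ, hm]) σ.range htr hn2
        _ hsg
      set N := Subgroup.normalClosure ({(⟨σ g, MonoidHom.mem_range.mpr ⟨g, rfl⟩⟩ : σ.range) ^ (p ^ (m - 1))} : Set σ.range)
      have hcz : z ∈ N.comap σ.rangeRestrict := by
        rw [Subgroup.mem_comap]
        apply Subgroup.subset_normalClosure
        rw [Set.mem_singleton_iff, hzdef, map_pow]
        rfl
      by_cases htop : N.comap σ.rangeRestrict = ⊤
      · apply hint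
        have hN : N = ⊤ := by
          rw [← Subgroup.map_comap_eq_self_of_surjective σ.rangeRestrict_surjective N, htop,
            Subgroup.map_top_of_surjective _ σ.rangeRestrict_surjective]
        rw [hN]
        exact ⟨fun a b => by
          obtain ⟨u, hu⟩ := MulAction.exists_smul_eq σ.range a b
          exact ⟨⟨u, Subgroup.mem_top u⟩, hu⟩⟩
      · have := C.normal_eq_bot P hP _ htop
        rw [this, Subgroup.mem_bot] at hcz
        exact hz1 hcz
  -- two-point moves
  have hmove : ∀ a b c d : ℕ, a < k → b < k → c < k → d < k → a ≠ b → c ≠ d →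
      ∃ h : H, ρ h (ρ (g ^ a) x) = ρ (g ^ c) x ∧ ρ h (ρ (g ^ b) x) = ρ (g ^ d) x := by
    intro a b c d ha hb hc hd hab hcd
    obtain ⟨⟨_, h, rfl⟩, h1, h2'⟩ := MulAction.is_two_pretransitive_iff.mp h2
      (show (g ^ a • o : Ω) ≠ g ^ b • o from fun e => hab (hpinj x hx a b ha hb (congrArg Subtype.val e)))
      (show (g ^ c • o : Ω) ≠ g ^ d • o from fun e => hcd (hpinj x hx c d hc hd (congrArg Subtype.val e)))
    exact ⟨h, congrArg Subtype.val h1, congrArg Subtype.val h2'⟩
  have hq2 : q ≠ 2 := by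
    intro hq
    obtain ⟨h, h01, h10⟩ := hmove 0 1 1 0 hk0 (by omega) (by omega) hk0 (by omega) (by omega)
    rw [pow_zero, one_apply, pow_one] at h01 h10
    obtain ⟨s, hs⟩ : Odd (orderOf h) := by
      refine Nat.not_even_iff_odd.mp fun he => C.cop ?_
      rw [hq]
      exact he.two_dvd.trans (orderOf_dvd_natCard h)
    have h4 : ∀ n : ℕ, ρ (h ^ (2 * n)) x = x := by
      intro n
      induction n with
      | zero => rw [mul_zero, pow_zero, one_apply]
      | succ n ih => rw [show 2 * (n + 1) = 2 * n + 1 + 1 by omega, pow_succ, mul_apply, h01, pow_succ, mul_apply, h10, ih]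
    have h5 : ρ g x = x := by
      have := pow_orderOf_eq_one h
      rw [hs, pow_succ'] at this
      have h6 := congrArg (fun t => ρ t x) this
      simp only [mul_apply, h4, h01, one_apply] at h6
      exact h6
    have := hpinj x hx 1 0 (by omega) hk0 (by rw [pow_one, pow_zero, one_apply, h5])
    omega
  -- the operators
  let E : H →* Module.End (ZMod q) V :=
    { toFun := fun h => (ρ h : V →ₗ[ZMod q] V)
      map_one' := by ext v; exact one_apply v
      map_mul' := fun a b => by ext v; exact mul_apply a b v }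
  set G : Module.End (ZMod q) V := E g with hGdef
  have hGpow : ∀ (i : ℕ) (v : V), (G ^ i) v = ρ (g ^ i) v := fun i v => by
    rw [hGdef, ← map_pow]; rfl
  have hGk : G ^ k = 1 := by rw [hGdef, ← map_pow, hkdef, pow_orderOf_eq_one, map_one]
  have hcyclic : ∀ A : Module.End (ZMod q) V, Commute A G → A x = 0 → A = 0 := by
    intro A hA hAx
    have hker := C.sylow_irr P (LinearMap.ker A) fun y hy w hw => by
      obtain ⟨i, rfl⟩ := hpows y hy
      rw [LinearMap.mem_ker] at hw ⊢
      rw [← hGpow, ← Module.End.mul_apply, (hA.pow_right i).eq, Module.End.mul_apply, hw, map_zero]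
    rcases hker with h | h
    · exact absurd (by rw [← Submodule.mem_bot (ZMod q), ← h, LinearMap.mem_ker]; exact hAx) hx
    · exact LinearMap.ker_eq_top.mp h
  set Cc : Module.End (ZMod q) V := 1 + G with hCdef
  have hCG : Commute Cc G := (Commute.one_left G).add_left (Commute.refl G)
  have hy0 : Cc x ≠ 0 := by
    intro e
    have hG1 : G x = -x := eq_neg_of_add_eq_zero_right (by simpa [hCdef] using e)
    have h2 : ρ (g ^ 2) x = x := by rw [← hGpow, sq, Module.End.mul_apply, hG1, map_neg, hG1, neg_neg]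
    have := hpinj x hx 2 0 (by omega) hk0 (by rw [h2, pow_zero, one_apply])
    omega
  have hex : ∀ i ∈ Finset.Ico 1 k, ∃ t, t < k ∧ 1 + G ^ i = G ^ t * Cc := by
    intro i hi
    rw [Finset.mem_Ico] at hi
    obtain ⟨h, hh0, hh1⟩ := hmove 0 1 0 i hk0 (by omega) hk0 (by omega) (by omega) (by omega)
    rw [pow_zero, one_apply] at hh0
    rw [pow_one] at hh1
    obtain ⟨y, hy, e⟩ := sylow_orbit C.orb P (Cc x) h
    obtain ⟨j, rfl⟩ := hpows y hy
    refine ⟨j % k, Nat.mod_lt _ hk0, sub_eq_zero.mp (hcyclic _ ?_ ?_)⟩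
    · exact ((Commute.one_left G).add_left (Commute.pow_self G i)).sub_left
        ((Commute.pow_self G _).mul_left hCG)
    · rw [LinearMap.sub_apply, Module.End.mul_apply, hGpow, hkdef, pow_mod_orderOf, e, sub_eq_zero]
      simp only [hCdef, LinearMap.add_apply, Module.End.one_apply, map_add, hGpow, hh0]
      exact congrArg (x + ·) hh1.symm
  choose! t ht using hex
  have htinj : Set.InjOn t (Finset.Ico 1 k) := by
    intro a ha b hb e
    have ha' := Finset.mem_Ico.mp ha
    have hb' := Finset.mem_Ico.mp hb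
    have h1 : (1 + G ^ a) x = (1 + G ^ b) x := by rw [(ht a ha).2, (ht b hb).2, e]
    simp only [LinearMap.add_apply, Module.End.one_apply, add_right_inj, hGpow] at h1
    exact hpinj x hx a b ha'.2 hb'.2 h1
  obtain ⟨t₀, ht₀⟩ : ∃ t₀, Finset.range k \ (Finset.Ico 1 k).image t = {t₀} := by
    rw [← Finset.card_eq_one, Finset.card_sdiff_of_subset, Finset.card_image_of_injOn htinj, Finset.card_range,
      Nat.card_Ico]
    · omega
    · intro a ha
      obtain ⟨i, hi, rfl⟩ := Finset.mem_image.mp ha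
      exact Finset.mem_range.mpr (ht i hi).1
  set W : Module.End (ZMod q) V := G ^ t₀ * Cc with hWdef
  have hgeom : ∀ s : ℕ, ¬ k ∣ s → ∑ i ∈ Finset.range k, (G ^ i) ^ s = 0 := by
    intro s hs
    have h1 : ∑ i ∈ Finset.range k, (G ^ i) ^ s = ∑ i ∈ Finset.range k, (G ^ s) ^ i :=
      Finset.sum_congr rfl fun i _ => by rw [← pow_mul, ← pow_mul, mul_comm]
    rw [h1]
    have h2 := mul_geom_sum (G ^ s) k
    rw [← pow_mul, mul_comm s k, pow_mul, hGk, one_pow, sub_self] at h2
    refine LinearMap.ext fun v => ?_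
    have h3 := LinearMap.congr_fun h2 v
    rw [Module.End.mul_apply, LinearMap.sub_apply, Module.End.one_apply, LinearMap.zero_apply, sub_eq_zero, hGpow] at h3
    rw [LinearMap.zero_apply]
    exact hfree s hs _ h3
  have hIco : ∀ s : ℕ, ¬ k ∣ s → ∑ i ∈ Finset.Ico 1 k, (G ^ i) ^ s = -1 := by
    intro s hs
    have h1 := hgeom s hs
    rw [Finset.range_eq_Ico, Finset.sum_eq_sum_Ico_succ_bot hk0, pow_zero, one_pow] at h1
    exact eq_neg_of_add_eq_zero_right h1
  have hmain : ∀ s : ℕ, ¬ k ∣ s → ∑ i ∈ Finset.Ico 1 k, (1 + G ^ i) ^ s = -W ^ s := by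
    intro s hs
    have h1 : ∀ j : ℕ, (G ^ j * Cc) ^ s = (G ^ j) ^ s * Cc ^ s := fun j => (hCG.symm.pow_left j).mul_pow s
    have h2 : ∑ i ∈ Finset.Ico 1 k, (1 + G ^ i) ^ s =
        (∑ j ∈ (Finset.Ico 1 k).image t, (G ^ j) ^ s) * Cc ^ s := by
      rw [Finset.sum_image htinj, Finset.sum_mul]
      exact Finset.sum_congr rfl fun i hi => by rw [(ht i hi).2, h1]
    have h3 : ∑ j ∈ (Finset.Ico 1 k).image t, (G ^ j) ^ s = -(G ^ t₀) ^ s := by
      have hsub : (Finset.Ico 1 k).image t ⊆ Finset.range k := fun a ha => by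
        obtain ⟨i, hi, rfl⟩ := Finset.mem_image.mp ha
        exact Finset.mem_range.mpr (ht i hi).1
      have h4 := Finset.sum_sdiff hsub (f := fun j => (G ^ j) ^ s)
      rw [ht₀, Finset.sum_singleton, hgeom s hs] at h4
      exact eq_neg_of_add_eq_zero_right h4
    rw [h2, h3, neg_mul, hWdef, h1]
  have hnd : ∀ s : ℕ, 1 ≤ s → s ≤ 3 → ¬ k ∣ s := fun s h1 h3 hd => by
    have := Nat.le_of_dvd (by omega) hd
    omega
  have hone : (Finset.Ico 1 k).card • (1 : Module.End (ZMod q) V) = ((k : ℤ) - 1 : ℤ) := by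
    rw [Nat.card_Ico, nsmul_one, show ((k : ℤ) - 1) = ((k - 1 : ℕ) : ℤ) by omega, Int.cast_natCast]
  have i1 := hIco 1 (hnd 1 le_rfl (by omega))
  have i2 := hIco 2 (hnd 2 (by omega) (by omega))
  have i3 := hIco 3 (hnd 3 (by omega) le_rfl)
  simp only [pow_one] at i1
  have m1 := hmain 1 (hnd 1 le_rfl (by omega))
  simp only [pow_one, Finset.sum_add_distrib, Finset.sum_const, hone, i1] at m1
  have hW : W = ((2 - k : ℤ) : Module.End (ZMod q) V) := by
    rw [← neg_neg W, ← m1]
    push_cast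
    noncomm_ring
    simp [zsmul_eq_mul, nsmul_eq_mul]
  have s2 : ∀ a : Module.End (ZMod q) V, (1 + a) ^ 2 = 1 + (2 : ℕ) • a + a ^ 2 := fun a => by
    rw [sq, add_mul, mul_add, mul_add, one_mul, mul_one, one_mul, sq, two_nsmul]; abel
  have s3 : ∀ a : Module.End (ZMod q) V, (1 + a) ^ 3 = 1 + (3 : ℕ) • a + (3 : ℕ) • a ^ 2 + a ^ 3 := fun a => by
    simp only [pow_succ, pow_zero, one_mul, add_mul, mul_add, mul_one]
    abel
  have m2 := hmain 2 (hnd 2 (by omega) (by omega))
  simp only [s2, Finset.sum_add_distrib, Finset.sum_const, hone, ← Finset.smul_sum, i1, i2] at m2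
  have m3 := hmain 3 (hnd 3 (by omega) le_rfl)
  simp only [s3, Finset.sum_add_distrib, Finset.sum_const, hone, ← Finset.smul_sum, i1, i2, i3] at m3
  -- read off divisibility
  have hqdvd : ∀ n : ℤ, (n : Module.End (ZMod q) V) = 0 → (q : ℤ) ∣ n := by
    intro n hn
    rw [← ZMod.intCast_zmod_eq_zero_iff_dvd]
    have h1 := LinearMap.congr_fun hn x
    rw [Module.End.intCast_apply, LinearMap.zero_apply, ← Int.cast_smul_eq_zsmul (ZMod q)] at h1
    exact (smul_eq_zero.mp h1).resolve_right hx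
  rw [hW] at m2 m3
  have hd2 : (q : ℤ) ∣ k * (k - 3) := hqdvd _ (by
    rw [show ((k : ℤ) * (k - 3) : ℤ) = ((k : ℤ) - 1 + 2 * (-1) + (-1)) + (2 - k) ^ 2 by ring]
    rw [← sub_eq_zero] at m2
    rw [← m2]
    push_cast
    noncomm_ring
    simp [zsmul_eq_mul, nsmul_eq_mul])
  have hd3 : (q : ℤ) ∣ ((k : ℤ) - 8) + (2 - k) ^ 3 := hqdvd _ (by
    rw [← sub_eq_zero] at m3
    rw [← m3]
    push_cast
    noncomm_ring
    simp [zsmul_eq_mul, nsmul_eq_mul])
  have hqk : ¬ (q : ℤ) ∣ (k : ℤ) := fun h => C.cop ((Int.natCast_dvd_natCast.mp h).trans (hkdef ▸ orderOf_dvd_natCard g))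
  have hqp : Prime (q : ℤ) := Nat.prime_iff_prime_int.mp Fact.out
  have hk3' : (q : ℤ) ∣ k - 3 := (hqp.dvd_or_dvd hd2).resolve_left hqk
  have h6 : (q : ℤ) ∣ 6 := by
    obtain ⟨c, hc⟩ := hk3'
    obtain ⟨d, hd⟩ := hd3
    have hk' : (k : ℤ) = q * c + 3 := by linarith
    rw [hk'] at hd
    refine ⟨-2 * c - 3 * q * c ^ 2 - q ^ 2 * c ^ 3 - d, ?_⟩
    linear_combination -hd
  have h6' : q ∣ 6 := by exact_mod_cast h6
  rcases ((Nat.Prime.dvd_mul Fact.out).mp (show q ∣ 2 * 3 by norm_num; exact h6')) with h | h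
  · exact hq2 ((Nat.prime_dvd_prime_iff_eq Fact.out Nat.prime_two).mp h)
  · have hq3 := (Nat.prime_dvd_prime_iff_eq Fact.out Nat.prime_three).mp h
    subst hq3
    apply hqk
    simpa using dvd_add hk3' (dvd_refl ((3 : ℕ) : ℤ))

end Cfsg.Lib.OrbitPPower
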