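import Cfsg.Agent.ClassSize.Orbit.Odd
import Cfsg.Agent.S0111
import Cfsg.Agent.PGroups.QuasiDihedral

/-!
The critical configuration for `p = 2`: the Sylow subgroup is not cyclic, dihedral,
quasi-dihedral or quaternion.
-/

set_option autoImplicit false
set_option linter.unusedSectionVars false
set_option linter.unusedVariables false
set_option linter.style.haveILetI false

namespace Cfsg.Lib.OrbitPPower

open Cfsg.Lib Subgroup
open Cfsg.Lib.HalfTrans (St mem_St mul_apply one_apply inv_apply_self orbit_mul_St)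

variable {q : ℕ} [Fact q.Prime] {V : Type*} [AddCommGroup V] [Module (ZMod q) V]
variable {H : Type*} [Group H] {ρ : H →* (V ≃ₗ[ZMod q] V)}
/-- The algebra of a linear map without invariant subspaces is a finite field. -/
theorem field_bound [Finite V] [Nontrivial V] (A Jm Jn : Module.End (ZMod q) V) (hJ1 : Jm * Jn = 1) (hJ2 : Jn * Jm = 1)
    (m : ℕ) (hJA : Jm * A * Jn = A ^ m)
    (hirr : ∀ U : Submodule (ZMod q) V, (∀ w ∈ U, A w ∈ U) → U = ⊥ ∨ U = ⊤) :
    ∃ l : ℕ, Jm * A * Jn = A ^ q ^ l ∧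
      ∀ d : ℕ, d ≠ 0 → A ^ q ^ d = A → Module.finrank (ZMod q) V ≤ d := by
  classical
  set R := Algebra.adjoin (ZMod q) ({A} : Set (Module.End (ZMod q) V)) with hRdef
  obtain ⟨v₁, hv₁⟩ := exists_ne (0 : V)
  haveI : Nontrivial (Module.End (ZMod q) V) := ⟨1, 0, fun h => hv₁ (LinearMap.congr_fun h v₁)⟩
  have hAR : A ∈ R := Algebra.subset_adjoin rfl
  letI : CommRing R := Algebra.adjoinCommRingOfComm (ZMod q) (by simp)
  have hcomm : ∀ r ∈ R, Commute r A := fun r hr => congrArg Subtype.val (mul_comm (⟨r, hr⟩ : R) ⟨A, hAR⟩)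
  haveI : Nontrivial R := ⟨1, 0, fun h => one_ne_zero (congrArg Subtype.val h : (1 : Module.End (ZMod q) V) = 0)⟩
  have hinj : ∀ r : R, r ≠ 0 → LinearMap.ker (r : Module.End (ZMod q) V) = ⊥ := by
    intro r hr
    refine (hirr _ fun w hw => ?_).resolve_right fun h => hr (Subtype.ext (LinearMap.ker_eq_top.mp h))
    rw [LinearMap.mem_ker] at hw ⊢
    rw [← Module.End.mul_apply, (hcomm r r.2).eq, Module.End.mul_apply, hw, map_zero]
  haveI : NoZeroDivisors R := ⟨fun {r s} h => by
    by_contra hc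
    rw [not_or] at hc
    refine hc.2 (Subtype.ext (LinearMap.ext fun w => LinearMap.ker_eq_bot'.mp (hinj r hc.1) _ ?_))
    exact LinearMap.congr_fun (congrArg Subtype.val h) w⟩
  haveI : IsDomain R := NoZeroDivisors.to_isDomain R
  haveI : Finite (Module.End (ZMod q) V) := Finite.of_injective (fun f => (f : V → V)) DFunLike.coe_injective
  haveI : Finite R := Subtype.finite
  letI : Fintype R := Fintype.ofFinite R
  letI : Field R := Fintype.fieldOfDomain R
  have hJR : ∀ r ∈ R, Jm * r * Jn ∈ R := by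
    intro r hr
    induction hr using Algebra.adjoin_induction with
    | mem x hx =>
      obtain rfl : x = A := hx
      rw [hJA]; exact pow_mem hAR m
    | algebraMap c =>
      rw [← Algebra.commutes, mul_assoc, hJ1, mul_one]; exact R.algebraMap_mem c
    | add x y _ _ hx hy => rw [mul_add, add_mul]; exact add_mem hx hy
    | mul x y _ _ hx hy =>
      have : Jm * (x * y) * Jn = (Jm * x * Jn) * (Jm * y * Jn) := by
        rw [mul_assoc (Jm * x) Jn, ← mul_assoc Jn (Jm * y), ← mul_assoc Jn Jm, hJ2, one_mul]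
        simp only [mul_assoc]
      rw [this]; exact mul_mem hx hy
  let JR : R →ₐ[ZMod q] R :=
    { toFun := fun r => ⟨Jm * r * Jn, hJR r r.2⟩
      map_one' := Subtype.ext (by show Jm * 1 * Jn = 1; rw [mul_one, hJ1])
      map_mul' := fun r s => Subtype.ext (by
        show Jm * ((r : Module.End (ZMod q) V) * s) * Jn = (Jm * r * Jn) * (Jm * s * Jn)
        rw [mul_assoc (Jm * (r : Module.End (ZMod q) V)) Jn, ← mul_assoc Jn (Jm * (s : Module.End (ZMod q) V)),
          ← mul_assoc Jn Jm, hJ2, one_mul]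
        simp only [mul_assoc])
      map_zero' := Subtype.ext (by show Jm * 0 * Jn = 0; simp)
      map_add' := fun r s => Subtype.ext (by
        show Jm * ((r : Module.End (ZMod q) V) + s) * Jn = Jm * r * Jn + Jm * s * Jn
        rw [mul_add, add_mul])
      commutes' := fun c => Subtype.ext (by
        show Jm * algebraMap (ZMod q) _ c * Jn = algebraMap (ZMod q) _ c
        rw [← Algebra.commutes, mul_assoc, hJ1, mul_one]) }
  have hJRbij : Function.Bijective JR := Finite.injective_iff_bijective.mp (JR : R →+* R).injective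
  obtain ⟨l, hl⟩ := (FiniteField.bijective_frobeniusAlgEquivOfAlgebraic_pow (ZMod q) R).2 (AlgEquiv.ofBijective JR hJRbij)
  have hfrob : ∀ (i : ℕ) (r : R), (FiniteField.frobeniusAlgEquivOfAlgebraic (ZMod q) R ^ i) r = r ^ q ^ i := by
    intro i
    induction i with
    | zero => intro r; simp
    | succ i ih =>
      intro r
      rw [pow_succ', AlgEquiv.mul_apply, ih, FiniteField.coe_frobeniusAlgEquivOfAlgebraic]
      simp only
      rw [← pow_mul, ZMod.card, ← pow_succ]
  refine ⟨(l : ℕ), ?_, fun d hd0 hd => ?_⟩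
  · have h1 := AlgEquiv.congr_fun hl ⟨A, hAR⟩
    simp only at h1
    rw [hfrob] at h1
    have h2 := congrArg Subtype.val h1
    rw [SubmonoidClass.coe_pow] at h2
    exact h2.symm
  have hR : ∀ r : R, r ^ q ^ d = r := by
    intro r
    rw [← hfrob]
    obtain ⟨r, hr⟩ := r
    induction hr using Algebra.adjoin_induction with
    | mem x hx =>
      obtain rfl : x = A := hx
      rw [hfrob]; exact Subtype.ext (by rw [SubmonoidClass.coe_pow]; exact hd)
    | algebraMap c => exact AlgEquiv.commutes _ c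
    | add x y hx hy h1 h2 =>
      have h3 := map_add (FiniteField.frobeniusAlgEquivOfAlgebraic (ZMod q) R ^ d) (⟨x, hx⟩ : R) ⟨y, hy⟩
      rw [h1, h2] at h3
      exact h3
    | mul x y hx hy h1 h2 =>
      have h3 := map_mul (FiniteField.frobeniusAlgEquivOfAlgebraic (ZMod q) R ^ d) (⟨x, hx⟩ : R) ⟨y, hy⟩
      rw [h1, h2] at h3
      exact h3
  have hq1 : 1 < q ^ d := Nat.one_lt_pow hd0 (Fact.out : q.Prime).one_lt
  have hcardR : Fintype.card R ≤ q ^ d := by
    rw [← FiniteField.X_pow_card_sub_X_natDegree_eq R hq1, ← Finset.card_univ]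
    refine Polynomial.card_le_degree_of_subset_roots fun r _ => ?_
    rw [Polynomial.mem_roots (FiniteField.X_pow_card_sub_X_ne_zero R hq1)]
    simp [hR r]
  let ev : R →ₗ[ZMod q] V := (LinearMap.applyₗ v₁).comp R.val.toLinearMap
  have htop : LinearMap.range ev = ⊤ := by
    refine (hirr _ ?_).resolve_left fun h => hv₁ ?_
    · rintro _ ⟨r, rfl⟩
      exact ⟨⟨A, hAR⟩ * r, rfl⟩
    · have : ev 1 ∈ LinearMap.range ev := ⟨1, rfl⟩
      rw [h, Submodule.mem_bot] at this
      exact this
  have h1 : Nat.card V ≤ Nat.card R := Nat.card_le_card_of_surjective ev (LinearMap.range_eq_top.mp htop)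
  rw [Nat.card_eq_fintype_card (α := R), Module.natCard_eq_pow_finrank (K := ZMod q), Nat.card_zmod] at h1
  exact (Nat.pow_le_pow_iff_right (Fact.out : q.Prime).one_lt).mp (h1.trans hcardR)

variable [Finite H] (C : Crit ρ 2)
include C

theorem Crit.two_dvd (P : Sylow 2 H) : 2 ∣ Nat.card H := by
  obtain ⟨k, hk⟩ := IsPGroup.iff_card.mp P.2
  refine dvd_trans ?_ (Subgroup.card_subgroup_dvd_card (P : Subgroup H))
  rw [hk]
  refine dvd_pow_self 2 fun hk0 => C.sylow_ne_bot P ?_
  exact Subgroup.eq_bot_of_card_eq _ (by rw [hk, hk0, pow_zero])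

theorem Crit.not_cyclic_two (P : Sylow 2 H) : ¬ IsCyclic (P : Subgroup H) := by
  intro hP
  have hmin : (Nat.card H).minFac = 2 := (Nat.minFac_eq_two_iff _).mpr (C.two_dvd P)
  haveI : Fact (Nat.Prime 2) := ⟨Nat.prime_two⟩
  have hN : normalizer (P : Set H) ≤ centralizer (P : Set H) := IsCyclic.normalizer_le_centralizer hmin hP
  have hc : IsMulCommutative (P : Subgroup H) := IsCyclic.isMulCommutative
  letI : CommGroup (P : Subgroup H) :=
    { (inferInstance : Group (P : Subgroup H)) with mul_comm := fun u v => hc.is_comm.comm u v }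
  have hker : (MonoidHom.transferSylow P hN).ker = ⊤ := by
    rw [eq_top_iff]
    exact fun x _ => MonoidHom.mem_ker.mpr (C.hom_trivial_comm (MonoidHom.transferSylow P hN) x)
  have h1 := MonoidHom.ker_transferSylow_isComplement' P hN
  rw [hker] at h1
  exact C.sylow_ne_bot P (Subgroup.isComplement'_top_left.mp h1)

/-- A cyclic subgroup of index two with an involution outside is impossible. -/
theorem Crit.no_outer_involution (P : Sylow 2 H) (M : Subgroup H) (hMP : M ≤ (P : Subgroup H))
    (hMi : M.relIndex (P : Subgroup H) = 2) (hMc : IsCyclic M) {u : H} (hu : orderOf u = 2)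
    (huP : u ∈ (P : Subgroup H)) (huM : u ∉ M) : False := by
  rcases Cfsg.Agent.S0111.result P M hMP hMi u hu huP huM with ⟨N, hN, hNi, huN⟩ | ⟨g, hg⟩
  · haveI := hN
    have hQ : Nat.card (H ⧸ N) = 2 := hNi
    haveI : Fact (Nat.Prime 2) := ⟨Nat.prime_two⟩
    haveI : IsCyclic (H ⧸ N) := isCyclic_of_prime_card hQ
    letI : CommGroup (H ⧸ N) := IsCyclic.commGroup
    exact huN ((QuotientGroup.eq_one_iff u).mp (C.hom_trivial_comm (QuotientGroup.mk' N) u))
  · set w := g * u * g⁻¹
    have hwo : orderOf w = 2 := by rw [← hu]; exact MulEquiv.orderOf_eq (MulAut.conj g) u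
    have hw1 : w ≠ 1 := fun e => by rw [e, orderOf_one] at hwo; omega
    haveI hMn : (M.subgroupOf (P : Subgroup H)).Normal := Subgroup.normal_of_index_eq_two hMi
    have hcent : ∀ y ∈ (P : Subgroup H), y * w = w * y := by
      intro y hy
      have hc : y * w * y⁻¹ ∈ M := hMn.conj_mem ⟨w, hMP hg⟩ hg ⟨y, hy⟩
      have ho : orderOf (y * w * y⁻¹) = 2 := by rw [← hwo]; exact MulEquiv.orderOf_eq (MulAut.conj y) w
      have heq : (⟨y * w * y⁻¹, hc⟩ : M) = ⟨w, hg⟩ := by
        classical
        letI : Fintype M := Fintype.ofFinite M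
        by_contra hne
        have h1 := hMc.card_pow_eq_one_le (n := 2) two_pos
        have h2 : ({1, ⟨y * w * y⁻¹, hc⟩, ⟨w, hg⟩} : Finset M) ⊆ Finset.univ.filter fun a : M => a ^ 2 = 1 := by
          intro a ha
          simp only [Finset.mem_insert, Finset.mem_singleton] at ha
          rw [Finset.mem_filter]
          refine ⟨Finset.mem_univ _, Subtype.ext ?_⟩
          rcases ha with rfl | rfl | rfl
          · simp
          · show (y * w * y⁻¹) ^ 2 = 1
            rw [← ho]; exact pow_orderOf_eq_one _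
          · show w ^ 2 = 1
            rw [← hwo]; exact pow_orderOf_eq_one _
        have h3 := (Finset.card_le_card h2).trans h1
        rw [Finset.card_insert_of_notMem, Finset.card_pair hne] at h3
        · omega
        · simp only [Finset.mem_insert, Finset.mem_singleton, not_or]
          refine ⟨fun e => hw1 ?_, fun e => hw1 ?_⟩
          · have h4 : y * w * y⁻¹ = 1 := (congrArg Subtype.val e).symm
            exact conj_eq_one_iff.mp h4
          · exact (congrArg Subtype.val e).symm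
      exact mul_inv_eq_iff_eq_mul.mp (congrArg Subtype.val heq)
    -- it acts as minus the identity
    have hneg : ∀ v : V, ρ w v = -v := fun v => by
      have h2 : ρ w (v + ρ w v) = v + ρ w v := by
        rw [map_add, ← mul_apply, ← sq, ← hwo, pow_orderOf_eq_one, one_apply, add_comm]
      exact eq_neg_of_add_eq_zero_right (C.central_fpf P hcent hw1 h2)
    have hcen : g⁻¹ * w * g = w := C.inj (LinearEquiv.ext fun v => by
      rw [mul_apply, mul_apply, hneg, map_neg, inv_apply_self, hneg])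
    exact huM (by rw [show u = g⁻¹ * w * g by simp [w, mul_assoc], hcen]; exact hg)

theorem Crit.not_dihedral (P : Sylow 2 H) (n : ℕ) : IsEmpty ((P : Subgroup H) ≃* DihedralGroup n) := by
  refine ⟨fun e => ?_⟩
  have hn0 : n ≠ 0 := by
    rintro rfl
    haveI : Finite (DihedralGroup 0) := Finite.of_equiv _ e.toEquiv
    exact not_finite (DihedralGroup 0)
  haveI : NeZero n := ⟨hn0⟩
  set r : (P : Subgroup H) := e.symm (DihedralGroup.r 1)
  set s : (P : Subgroup H) := e.symm (DihedralGroup.sr 0)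
  have hs : orderOf (s : H) = 2 := by
    rw [Subgroup.orderOf_coe, MulEquiv.orderOf_eq, DihedralGroup.orderOf_sr]
  refine C.no_outer_involution P ((zpowers r).map (P : Subgroup H).subtype) (map_subtype_le _) ?_ ?_ hs s.2 ?_
  · rw [Subgroup.relIndex, Subgroup.subgroupOf,
      Subgroup.comap_map_eq_self_of_injective (P : Subgroup H).subtype_injective]
    have h1 := (zpowers r).card_mul_index
    rw [Nat.card_zpowers, MulEquiv.orderOf_eq, DihedralGroup.orderOf_r_one, Nat.card_congr e.toEquiv,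
      DihedralGroup.nat_card, mul_comm 2 n] at h1
    exact Nat.eq_of_mul_eq_mul_left (Nat.pos_of_ne_zero hn0) h1
  · rw [MonoidHom.map_zpowers]; infer_instance
  · rintro ⟨x, hx, hxs⟩
    obtain rfl : x = s := Subtype.ext hxs
    obtain ⟨i, hi⟩ := hx
    have := congrArg e hi
    simp [r, s, DihedralGroup.r_one_zpow] at this

theorem Crit.not_quasiDihedral (P : Sylow 2 H) : ¬ Cfsg.IsQuasiDihedral (P : Subgroup H) := by
  intro hq
  obtain ⟨m, a, b, hm, hg⟩ := Cfsg.Lib.QD.exists_gen hq
  have hb : orderOf (b : H) = 2 := by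
    rw [Subgroup.orderOf_coe]
    refine orderOf_eq_prime ?_ fun e => hg.notMem (e ▸ one_mem _)
    rw [sq, hg.sq, zpow_zero]
  refine C.no_outer_involution P ((zpowers a).map (P : Subgroup H).subtype) (map_subtype_le _) ?_ ?_ hb b.2 ?_
  · rw [Subgroup.relIndex, Subgroup.subgroupOf,
      Subgroup.comap_map_eq_self_of_injective (P : Subgroup H).subtype_injective]
    exact Cfsg.Lib.CyclicMax.index_zpowers hg
  · rw [MonoidHom.map_zpowers]; infer_instance
  · rintro ⟨x, hx, hxs⟩
    obtain rfl : x = b := Subtype.ext hxs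
    exact hg.notMem hx

theorem Crit.not_quaternion [Finite V] [Nontrivial V] (P : Sylow 2 H) (n : ℕ) :
    IsEmpty ((P : Subgroup H) ≃* QuaternionGroup n) := by
  classical
  refine ⟨fun e => ?_⟩
  haveI : Fact (Nat.Prime 2) := ⟨Nat.prime_two⟩
  rcases Nat.lt_or_ge n 2 with hn2 | hn2
  · rcases Nat.eq_zero_or_pos n with rfl | hn0
    · exact (C.not_dihedral P 0).false (e.trans QuaternionGroup.quaternionGroupZeroEquivDihedralGroupZero)
    · obtain rfl : n = 1 := by omega
      refine C.not_cyclic_two P ?_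
      haveI : IsCyclic (QuaternionGroup 1) := QuaternionGroup.quaternionGroup_one_isCyclic
      exact isCyclic_of_surjective e.symm.toMonoidHom e.symm.surjective
  haveI : NeZero n := ⟨by omega⟩
  set a : H := ((e.symm (QuaternionGroup.a 1) : (P : Subgroup H)) : H) with hadef
  set j : H := ((e.symm (QuaternionGroup.xa 0) : (P : Subgroup H)) : H) with hjdef
  have hao : orderOf a = 2 * n := by
    rw [hadef, Subgroup.orderOf_coe, MulEquiv.orderOf_eq, QuaternionGroup.orderOf_a_one]
  have hconj : j * a * j⁻¹ = a⁻¹ := by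
    have h1 : QuaternionGroup.xa (0 : ZMod (2 * n)) * QuaternionGroup.a 1 * (QuaternionGroup.xa 0)⁻¹ =
        (QuaternionGroup.a 1)⁻¹ := by
      rw [mul_inv_eq_iff_eq_mul]
      show _ = QuaternionGroup.a (-1) * _
      simp
    have h2 := congrArg (fun t => ((e.symm t : (P : Subgroup H)) : H)) h1
    simpa only [map_mul, map_inv, Subgroup.coe_mul, Subgroup.coe_inv] using h2
  have hj2 : j * j = a ^ n := by
    have h1 : QuaternionGroup.xa (0 : ZMod (2 * n)) * QuaternionGroup.xa 0 = QuaternionGroup.a 1 ^ n := by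
      rw [QuaternionGroup.a_one_pow]; simp
    have h2 := congrArg (fun t => ((e.symm t : (P : Subgroup H)) : H)) h1
    simpa only [map_mul, map_pow, Subgroup.coe_mul, Subgroup.coe_pow] using h2
  have hcases : ∀ y ∈ (P : Subgroup H), ∃ i : ℕ, y = a ^ i ∨ y = j * a ^ i := by
    intro y hy
    rcases hE : e ⟨y, hy⟩ with i | i
    · refine ⟨i.val, Or.inl ?_⟩
      have h1 : (⟨y, hy⟩ : (P : Subgroup H)) = e.symm (QuaternionGroup.a 1 ^ i.val) := by
        rw [QuaternionGroup.a_one_pow, ZMod.natCast_zmod_val, ← hE, e.symm_apply_apply]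
      simpa only [map_pow, Subgroup.coe_pow] using congrArg Subtype.val h1
    · refine ⟨i.val, Or.inr ?_⟩
      have h1 : (⟨y, hy⟩ : (P : Subgroup H)) = e.symm (QuaternionGroup.xa 0 * QuaternionGroup.a 1 ^ i.val) := by
        rw [QuaternionGroup.a_one_pow, ZMod.natCast_zmod_val, QuaternionGroup.xa_mul_a, zero_add, ← hE,
          e.symm_apply_apply]
      simpa only [map_mul, map_pow, Subgroup.coe_mul, Subgroup.coe_pow] using congrArg Subtype.val h1
  let E : H →* Module.End (ZMod q) V :=
    { toFun := fun h => (ρ h : V →ₗ[ZMod q] V)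
      map_one' := by ext v; exact one_apply v
      map_mul' := fun a b => by ext v; exact mul_apply a b v }
  -- the cyclic part is irreducible
  have hairr : ∀ U : Submodule (ZMod q) V, (∀ w ∈ U, ρ a w ∈ U) → U = ⊥ ∨ U = ⊤ := by
    intro U hU
    have hai : ∀ (i : ℕ) (w : V), w ∈ U → ρ (a ^ i) w ∈ U := by
      intro i
      induction i with
      | zero => intro w hw; rwa [pow_zero, one_apply]
      | succ i ih => intro w hw; rw [pow_succ', mul_apply]; exact hU _ (ih w hw)
    have hainv : ∀ w ∈ U, ρ a⁻¹ w ∈ U := by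
      intro w hw
      have h1 : a⁻¹ = a ^ (orderOf a - 1) := by
        rw [inv_eq_iff_mul_eq_one, ← pow_succ', Nat.sub_add_cancel (orderOf_pos a), pow_orderOf_eq_one]
      exact h1 ▸ hai _ w hw
    have haj : a * j = j * a⁻¹ := by
      have := congrArg (fun t => a * t * j * a⁻¹) hconj
      simpa [mul_assoc] using this
    have hja : ∀ (w : V), ρ a (ρ j w) = ρ j (ρ a⁻¹ w) := fun w => by
      rw [← mul_apply, ← mul_apply, haj]
    set U' := U.map (ρ j : V →ₗ[ZMod q] V) with hU'
    have hU'a : ∀ w ∈ U', ρ a w ∈ U' := by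
      rintro _ ⟨w, hw, rfl⟩
      exact ⟨ρ a⁻¹ w, hainv w hw, (hja w).symm⟩
    have hjU' : ∀ w ∈ U', ρ j w ∈ U := by
      rintro _ ⟨w, hw, rfl⟩
      rw [LinearEquiv.coe_coe, ← mul_apply, hj2]
      exact hai n w hw
    have hjU : ∀ w ∈ U, ρ j w ∈ U' := fun w hw => ⟨w, hw, rfl⟩
    have hai' : ∀ (i : ℕ) (w : V), w ∈ U' → ρ (a ^ i) w ∈ U' := by
      intro i
      induction i with
      | zero => intro w hw; rwa [pow_zero, one_apply]
      | succ i ih => intro w hw; rw [pow_succ', mul_apply]; exact hU'a _ (ih w hw)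
    have hinv : ∀ W : Submodule (ZMod q) V, (∀ w ∈ W, ρ a w ∈ W) → (∀ w ∈ W, ρ j w ∈ W) → W = ⊥ ∨ W = ⊤ := by
      intro W hWa hWj
      refine C.sylow_irr P W fun y hy w hw => ?_
      have hWai : ∀ i : ℕ, ρ (a ^ i) w ∈ W := by
        intro i
        induction i with
        | zero => rwa [pow_zero, one_apply]
        | succ i ih => rw [pow_succ', mul_apply]; exact hWa _ ih
      obtain ⟨i, rfl | rfl⟩ := hcases y hy
      · exact hWai i
      · rw [mul_apply]; exact hWj _ (hWai i)
    rcases hinv (U ⊓ U') (fun w hw => ⟨hU w hw.1, hU'a w hw.2⟩) (fun w hw => ⟨hjU' w hw.2, hjU w hw.1⟩) with hI | hI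
    swap
    · exact Or.inr (top_le_iff.mp (hI ▸ inf_le_left))
    rcases hinv (U ⊔ U') (fun w hw => by
        obtain ⟨u, hu, u', hu', rfl⟩ := Submodule.mem_sup.mp hw
        rw [map_add]; exact Submodule.add_mem_sup (hU u hu) (hU'a u' hu'))
      (fun w hw => by
        obtain ⟨u, hu, u', hu', rfl⟩ := Submodule.mem_sup.mp hw
        rw [map_add, add_comm]; exact Submodule.add_mem_sup (hjU' u' hu') (hjU u hu)) with hS | hS
    · exact Or.inl (le_bot_iff.mp (hS ▸ le_sup_left))
    by_contra hcon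
    rw [not_or] at hcon
    refine C.no_blocks P ![U, U'] ?_ ?_ ?_ ?_ ?_
    · rw [← top_le_iff, ← hS]
      exact sup_le (le_iSup_of_le 0 le_rfl) (le_iSup_of_le 1 le_rfl)
    · rw [iSupIndep_pair (i := (0 : Fin 2)) (j := 1) (by decide) (by decide)]
      exact disjoint_iff.mpr hI
    · intro i
      fin_cases i
      · exact hcon.1
      · show U' ≠ ⊥
        intro hb
        refine hcon.1 (le_bot_iff.mp fun w hw => ?_)
        have h1 := hjU w hw
        rw [hb, Submodule.mem_bot] at h1
        simpa using h1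
    · intro y hy i
      obtain ⟨l, rfl | rfl⟩ := hcases y hy <;> fin_cases i
      · exact ⟨0, fun w hw => hai l w hw⟩
      · exact ⟨1, fun w hw => hai' l w hw⟩
      · exact ⟨1, fun w hw => by rw [mul_apply]; exact hjU _ (hai l w hw)⟩
      · exact ⟨0, fun w hw => by rw [mul_apply]; exact hjU' _ (hai' l w hw)⟩
    · obtain ⟨w, hw, hw0⟩ := (Submodule.ne_bot_iff _).mp hcon.1
      refine ⟨j, (e.symm _).2, 0, w, hw, fun hc => hw0 ?_⟩
      have h1 : ρ j w ∈ U ⊓ U' := ⟨hc, hjU w hw⟩
      rw [hI, Submodule.mem_bot] at h1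
      simpa using h1
  -- the field generated by the cyclic part
  obtain ⟨l, hkey0, hfin⟩ := field_bound (E a) (E j) (E j⁻¹) (by rw [← map_mul, mul_inv_cancel, map_one])
    (by rw [← map_mul, inv_mul_cancel, map_one]) (orderOf a - 1) (by
      rw [← map_mul, ← map_mul, hconj, ← map_pow]
      congr 1
      rw [inv_eq_iff_mul_eq_one, ← pow_succ', Nat.sub_add_cancel (orderOf_pos a), pow_orderOf_eq_one])
    (fun U hU => hairr U hU)
  have hEinj : Function.Injective E := fun x y h => C.inj (LinearEquiv.toLinearMap_injective h)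
  obtain ⟨v₁, hv₁⟩ := exists_ne (0 : V)
  have hkey : a⁻¹ = a ^ q ^ l := by
    refine hEinj ?_
    rw [map_pow, ← hkey0, ← map_mul, ← map_mul, hconj]
  have hq2 : q % 2 = 1 := by
    rcases (Fact.out : q.Prime).eq_two_or_odd with h | h
    · exact absurd (h ▸ C.two_dvd P) C.cop
    · exact h
  have hdvd : 2 * n ∣ q ^ l + 1 := by
    rw [← hao]
    apply orderOf_dvd_of_pow_eq_one
    rw [pow_succ, ← hkey, inv_mul_cancel]
  obtain ⟨b, hb⟩ : ∃ b, 2 * n = 2 ^ b := by
    obtain ⟨b, hb⟩ := IsPGroup.iff_orderOf.mp P.2 ⟨a, (e.symm _).2⟩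
    rw [Subgroup.orderOf_mk, hao] at hb
    exact ⟨b, hb⟩
  have hb2 : 2 ≤ b := by
    by_contra h
    have : 2 ^ b ≤ 2 ^ 1 := Nat.pow_le_pow_right (by norm_num) (by omega)
    omega
  have hlodd : Odd l := by
    refine Nat.not_even_iff_odd.mp fun ⟨c, hc⟩ => ?_
    have h4 : 4 ∣ q ^ l + 1 := (Dvd.dvd.trans ⟨2 ^ (b - 2), by
      rw [hb, show (4 : ℕ) = 2 ^ 2 from rfl, ← pow_add, Nat.add_sub_cancel' hb2]⟩ hdvd)
    have h5 : q ^ l % 4 = 1 := by
      rw [hc, ← two_mul, pow_mul, Nat.pow_mod, show q ^ 2 % 4 = 1 by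
        rw [Nat.pow_mod]; rcases Nat.odd_mod_four_iff.mp hq2 with h | h <;> rw [h]]
      simp
    omega
  have haq : a ^ (q ^ 2) = a := by
    have h1 : 2 ^ b ∣ (q ^ 2) ^ l - 1 := by
      refine (hb ▸ hdvd).trans ⟨q ^ l - 1, ?_⟩
      rw [← pow_mul, mul_comm 2, pow_mul, ← Nat.sq_sub_sq, one_pow]
    rw [← geom_sum_mul_of_one_le (Nat.one_le_pow _ _ (Fact.out : q.Prime).pos)] at h1
    have hcop : Nat.Coprime (2 ^ b) (∑ i ∈ Finset.range l, (q ^ 2) ^ i) := by
      refine Nat.Coprime.pow_left b ((Nat.prime_two.coprime_iff_not_dvd).mpr ?_)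
      rw [Nat.dvd_iff_mod_eq_zero, Finset.sum_nat_mod]
      have h2 : ∀ i ∈ Finset.range l, (q ^ 2) ^ i % 2 = 1 := fun i _ => by
        rw [← pow_mul, Nat.pow_mod, hq2]; simp
      rw [Finset.sum_congr rfl h2, Finset.sum_const, Finset.card_range, smul_eq_mul, mul_one,
        Nat.odd_iff.mp hlodd]
      omega
    have h3 := hcop.dvd_of_dvd_mul_left h1
    rw [← hb, ← hao] at h3
    conv_rhs => rw [← pow_one a]
    rw [← Nat.sub_add_cancel (Nat.one_le_pow 2 q (Fact.out : q.Prime).pos), pow_succ, orderOf_dvd_iff_pow_eq_one.mp h3,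
      one_mul, pow_one]
  have hV : Module.finrank (ZMod q) V ≤ 2 := hfin 2 two_ne_zero (by rw [← map_pow, haq])
  have hdet : ∀ h : H, LinearMap.det (E h) = 1 := fun h => by
    have := congrArg Units.val (C.hom_trivial_comm (LinearEquiv.det.comp ρ) h)
    show LinearMap.det (ρ h : V →ₗ[ZMod q] V) = 1
    simpa using this
  rcases (show Module.finrank (ZMod q) V = 1 ∨ Module.finrank (ZMod q) V = 2 by
    have := Module.finrank_pos (R := ZMod q) (M := V); omega) with h1 | h2
  · refine C.sylow_ne_bot P (eq_bot_iff.mpr fun y _ => ?_)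
    rw [Subgroup.mem_bot]
    refine hEinj ?_
    rw [map_one]
    obtain ⟨c, hc⟩ : ∃ c : ZMod q, ρ y v₁ = c • v₁ := by
      obtain ⟨c, hc⟩ := (finrank_eq_one_iff_of_nonzero' v₁ hv₁).mp h1 (ρ y v₁)
      exact ⟨c, hc.symm⟩
    have hEy : E y = c • 1 := LinearMap.ext fun w => by
      obtain ⟨d, rfl⟩ := (finrank_eq_one_iff_of_nonzero' v₁ hv₁).mp h1 w
      show ρ y (d • v₁) = c • d • v₁
      rw [map_smul, hc, smul_comm]
    have hd := hdet y
    rw [hEy, LinearMap.det_smul, h1, map_one, mul_one, pow_one] at hd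
    rw [hEy, hd, one_smul]
  · -- an element of odd prime order fixing a vector
    obtain ⟨r, hr, hrd, hr2⟩ : ∃ r, r.Prime ∧ r ∣ Nat.card H ∧ r ≠ 2 := by
      by_contra hc
      push Not at hc
      refine C.nsol ?_
      have hP2 : IsPGroup 2 H := IsPGroup.of_card (n := (Nat.card H).factorization 2) (by
        have h1 := Nat.eq_prime_pow_of_unique_prime_dvd (p := 2) Nat.card_pos.ne' fun {d} hd hdd => hc d hd hdd
        rw [h1, Nat.factorization_pow, Finsupp.smul_apply, Nat.prime_two.factorization_self, smul_eq_mul, mul_one])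
      haveI := hP2.isNilpotent
      infer_instance
    obtain ⟨k, hk⟩ := C.orb v₁
    haveI : Fact r.Prime := ⟨hr⟩
    have hrS : r ∣ Nat.card (St ρ v₁) := by
      rw [← (St ρ v₁).card_mul_index, hk] at hrd
      exact ((Nat.Prime.dvd_mul hr).mp hrd).resolve_right fun h =>
        hr2 ((Nat.prime_dvd_prime_iff_eq hr Nat.prime_two).mp (hr.dvd_of_dvd_pow h))
    obtain ⟨⟨h, hh⟩, ho⟩ := exists_prime_orderOf_dvd_card' r hrS
    rw [Subgroup.orderOf_mk] at ho
    rw [mem_St] at hh
    obtain ⟨v₂, hv₂⟩ := exists_linearIndependent_pair_of_one_lt_finrank (R := ZMod q) (by omega) hv₁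
    let bs := basisOfLinearIndependentOfCardEqFinrank hv₂ (by rw [h2, Fintype.card_fin])
    have hbs0 : bs 0 = v₁ := by simp [bs]
    have hbs1 : bs 1 = v₂ := by simp [bs]
    have hd := hdet h
    rw [← LinearMap.det_toMatrix bs, Matrix.det_fin_two] at hd
    have hh' : E h (bs 0) = bs 0 := by rw [hbs0]; exact hh
    have h00 : LinearMap.toMatrix bs bs (E h) 0 0 = 1 := by simp [LinearMap.toMatrix_apply, hh']
    have h10 : LinearMap.toMatrix bs bs (E h) 1 0 = 0 := by simp [LinearMap.toMatrix_apply, hh']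
    rw [h00, h10, one_mul, mul_zero, sub_zero] at hd
    set c := LinearMap.toMatrix bs bs (E h) 0 1
    have hb1 : ρ h v₂ = c • v₁ + v₂ := by
      have := bs.sum_repr (E h (bs 1))
      rw [Fin.sum_univ_two, ← LinearMap.toMatrix_apply, ← LinearMap.toMatrix_apply, hd, one_smul, hbs0, hbs1] at this
      exact this.symm
    have hpow1 : ∀ i : ℕ, ρ (h ^ i) v₁ = v₁ := fun i => HalfTrans.pow_fix hh i
    have hpow2 : ∀ i : ℕ, ρ (h ^ i) v₂ = (i : ZMod q) • c • v₁ + v₂ := by
      intro i
      induction i with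
      | zero => simp [one_apply]
      | succ i ih =>
        rw [pow_succ', mul_apply, ih, map_add, map_smul, map_smul, hh, hb1, Nat.cast_succ, add_smul, one_smul]
        abel
    have hq : h ^ q = 1 := hEinj (by
      rw [map_one]
      refine bs.ext fun i => ?_
      fin_cases i
      · show ρ (h ^ q) (bs 0) = bs 0
        rw [hbs0, hpow1]
      · show ρ (h ^ q) (bs 1) = bs 1
        rw [hbs1, hpow2, ZMod.natCast_self, zero_smul, zero_add])
    have := orderOf_dvd_of_pow_eq_one hq
    rw [ho] at this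
    exact C.cop ((Nat.prime_dvd_prime_iff_eq hr Fact.out).mp this ▸ hrd)

end Cfsg.Lib.OrbitPPower
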